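import Cfsg.Agent.Lib.Sporadic.SuzRank.Model

/-!
The automorphism group of the graph on 1782 points has order at most twice the order of the Suzuki group.
-/

set_option autoImplicit false
set_option maxRecDepth 10000

namespace CfsgLib.Sporadic.SuzRank

open CfsgLib.Sporadic.OutCert
open CfsgLib.Sporadic.CosetCert (SuzP.isSimple)
open scoped Classical

attribute [local irreducible] lk pkF allF compK oneK alAt Suz.rowAt autBase autCount locTree

theorem base_lt {q : ℕ} (hq : q ∈ autBase) : q < 416 := by simpa using List.all_eq_true.1 aut_ok.1 q hq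

/-- The automorphisms of the local graph fixing the first base points. -/
noncomputable def baseFix (k : ℕ) : Subgroup L :=
  pairStab locD ⊓ fixingSubgroup L {i : Fin 416 | (i : ℕ) ∈ autBase.take k}

theorem mem_baseFix {k : ℕ} {σ : L} :
    σ ∈ baseFix k ↔ σ ∈ pairStab locD ∧ ∀ i : Fin 416, (i : ℕ) ∈ autBase.take k → σ i = i := by
  rw [baseFix, Subgroup.mem_inf, mem_fixingSubgroup_iff]
  exact Iff.rfl

theorem baseFix_end : baseFix autBase.length = ⊥ := by
  refine (Subgroup.eq_bot_iff_forall _).2 fun σ hσ => ?_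
  obtain ⟨h1, h2⟩ := mem_baseFix.1 hσ
  refine eq_of_agree locTree_ok h1 (one_mem _) fun q hq => ⟨⟨q, base_lt hq⟩, rfl, ?_⟩
  exact h2 _ (by rw [List.take_length]; exact hq)

theorem card_baseFix_succ {k : ℕ} (hk : k < autBase.length) :
    Nat.card (baseFix k) ≤ autCount.getD k 0 * Nat.card (baseFix (k + 1)) := by
  let b : Fin 416 := ⟨autBase.getD k 0, base_lt (by
    rw [List.getD_eq_getElem _ _ hk]; exact List.getElem_mem _)⟩
  let F := baseFix k
  rw [← (MulAction.stabilizer F b).card_mul_index, MulAction.index_stabilizer, mul_comm]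
  refine Nat.mul_le_mul ?_ (le_of_eq ?_)
  · have hsub : MulAction.orbit F b ⊆ ↑(Finset.univ.filter fun x : Fin 416 =>
        ((autBase.take k).all fun q => Nat.beq (locD x q) (locD (autBase.getD k 0) q)) = true) := by
      rintro _ ⟨⟨σ, hσ⟩, rfl⟩
      obtain ⟨h1, h2⟩ := mem_baseFix.1 hσ
      simp only [Finset.coe_filter, Finset.mem_univ, true_and, Set.mem_ofPred_eq, List.all_eq_true, Nat.beq_eq]
      intro q hq
      have hq' : q < 416 := base_lt (List.mem_of_mem_take hq)
      have e := mem_pairStab.1 h1 b ⟨q, hq'⟩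
      rw [h2 ⟨q, hq'⟩ hq] at e
      exact e
    refine (Set.ncard_le_ncard hsub (Set.toFinite _)).trans (le_of_eq ?_)
    rw [Set.ncard_coe_finset, ← beq_iff_eq.1 (List.all_eq_true.1 aut_ok.2.2.1 k (List.mem_range.2 hk)), candK,
      List.countP_eq_length_filter, ← List.toFinset_card_of_nodup (List.nodup_range.filter _)]
    refine Finset.card_bij (fun i _ => (i : ℕ)) (fun i hi => ?_) (fun _ _ _ _ e => Fin.ext e) (fun x hx => ?_)
    · simp only [Finset.mem_filter, Finset.mem_univ, true_and] at hi
      simp only [List.mem_toFinset, List.mem_filter, List.mem_range]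
      exact ⟨i.2, hi⟩
    · simp only [List.mem_toFinset, List.mem_filter, List.mem_range] at hx
      exact ⟨⟨x, hx.1⟩, by simpa using hx.2, rfl⟩
  · have hiff : ∀ σ : L, σ ∈ baseFix (k + 1) ↔ σ ∈ F ∧ σ b = b := by
      intro σ
      rw [mem_baseFix, mem_baseFix, List.take_succ_eq_append_getElem hk]
      constructor
      · rintro ⟨h1, h2⟩
        refine ⟨⟨h1, fun i hi => h2 i (List.mem_append_left _ hi)⟩, h2 b (List.mem_append_right _ ?_)⟩
        simp [b, hk]
      · rintro ⟨⟨h1, h2⟩, h3⟩
        refine ⟨h1, fun i hi => ?_⟩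
        rcases List.mem_append.1 hi with hi | hi
        · exact h2 i hi
        · obtain rfl : i = b := Fin.ext (by simpa [b, hk] using hi)
          exact h3
    exact Nat.card_congr
      { toFun := fun g => ⟨((g : F) : L), (hiff _).2 ⟨(g : F).2, g.2⟩⟩
        invFun := fun g => ⟨⟨g, ((hiff _).1 g.2).1⟩, ((hiff _).1 g.2).2⟩
        left_inv := fun _ => rfl
        right_inv := fun _ => rfl }

theorem card_baseFix : ∀ (m k : ℕ), k + m = autBase.length →
    Nat.card (baseFix k) ≤ (autCount.drop k).prod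
  | 0, k, h => by
    rw [Nat.add_zero] at h
    rw [h, baseFix_end, Subgroup.card_bot, List.drop_eq_nil_of_le (by rw [aut_ok.2.1]), List.prod_nil]
  | m + 1, k, h => by
    have hk : k < autBase.length := by omega
    have hk' : k < autCount.length := by rw [← aut_ok.2.1]; exact hk
    refine (card_baseFix_succ hk).trans ?_
    rw [List.drop_eq_getElem_cons hk', List.prod_cons, List.getD_eq_getElem _ _ hk']
    exact Nat.mul_le_mul_left _ (card_baseFix m (k + 1) (by omega))

theorem card_loc_aut : Nat.card ↥(pairStab (N := 416) locD) ≤ 503193600 := by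
  have h := card_baseFix autBase.length 0 (by omega)
  rw [List.drop_zero, aut_ok.2.2.2] at h
  refine le_trans (Subgroup.card_le_of_le fun σ hσ => ?_) h
  exact mem_baseFix.2 ⟨hσ, fun i hi => by simp at hi⟩

/-- A permutation preserves the graph. -/
def IsGraphAut (g : P) : Prop := ∀ x y, Adj (g x) (g y) ↔ Adj x y

theorem IsGraphAut.mem {g : P} (hg : IsGraphAut g) : g ∈ Suz.Stab :=
  mem_pairStab.2 fun x y => Bool.eq_iff_iff.2 (hg x y)

theorem aut_of_mem {g : P} (hg : g ∈ Suz.Stab) : IsGraphAut g := fun x y => by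
  show Suz.adjK (g x : ℕ) (g y : ℕ) = true ↔ Suz.adjK x y = true
  rw [mem_pairStab.1 hg x y]

theorem card_stab : Nat.card Suz.Stab ≤ 896690995200 := by
  let S0 := MulAction.stabilizer Suz.Stab p0
  rw [← S0.card_mul_index, MulAction.index_stabilizer]
  have hfix : ∀ g : S0, ((g : Suz.Stab) : P) p0 = p0 := fun g => g.2
  have haut : ∀ g : S0, IsGraphAut ((g : Suz.Stab) : P) := fun g => aut_of_mem (g : Suz.Stab).2
  have hmap : ∀ (g : S0) i, ∃ j, nb j = ((g : Suz.Stab) : P) (nb i) := fun g i => exists_nb (by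
    have := (haut g p0 (nb i)).2 (adj_nb i)
    rwa [hfix] at this)
  choose f hf using hmap
  have hbij : ∀ g, Function.Bijective (f g) := fun g => Finite.injective_iff_bijective.1 fun i j e =>
    nb_injective (((g : Suz.Stab) : P).injective (by rw [← hf, ← hf, e]))
  let r : S0 → ↥(pairStab (N := 416) locD) := fun g => ⟨Equiv.ofBijective _ (hbij g), fun i j => by
    show locD (f g i : ℕ) (f g j) = locD i j
    have h : aljK (f g i) (f g j) = aljK i j := Bool.eq_iff_iff.2 (by
      show Alj _ _ ↔ Alj i j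
      rw [alj_iff, alj_iff, hf, hf, haut])
    rw [locD, locD, h]
    by_cases e : i = j
    · subst e; simp
    · have e' : ¬ f g i = f g j := fun he => e ((hbij g).1 he)
      rw [Fin.ext_iff] at e e'
      simp [e, e']⟩
  have hr : Function.Injective r := by
    intro g h e
    have he : ∀ i, ((g : Suz.Stab) : P) (nb i) = ((h : Suz.Stab) : P) (nb i) := fun i => by
      rw [← hf, ← hf]
      exact congrArg nb (congrArg (fun σ : ↥(pairStab (N := 416) locD) => (σ : L) i) e)
    refine Subtype.ext (Subtype.ext (Equiv.ext fun x => ?_))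
    by_cases h0 : x = p0
    · rw [h0, hfix, hfix]
    by_cases hA : Adj p0 x
    · obtain ⟨i, rfl⟩ := exists_nb hA
      exact he i
    obtain ⟨v, rfl⟩ := exists_far h0 hA
    have hk : ∀ g : S0, ∃ w, far w = ((g : Suz.Stab) : P) (far v) := fun g => by
      refine exists_far (fun e => far_ne v (((g : Suz.Stab) : P).injective (e.trans (hfix g).symm))) fun e => ?_
      rw [← hfix g, haut] at e
      exact not_adj_far v e
    obtain ⟨w, hw⟩ := hk g
    obtain ⟨w', hw'⟩ := hk h
    rw [← hw, ← hw']
    congr 1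
    refine mu_injective fun j => ?_
    obtain ⟨i, rfl⟩ := (hbij g).2 j
    rw [mu_iff, mu_iff, hw, hw', hf, haut, he, haut]
  have h1 := (Nat.card_le_card_of_injective r hr).trans card_loc_aut
  have h2 : (MulAction.orbit Suz.Stab p0).ncard ≤ 1782 :=
    le_of_le_of_eq (Set.ncard_le_ncard (Set.subset_univ _) (Set.toFinite _)) (by rw [Set.ncard_univ, Nat.card_fin])
  exact (Nat.mul_le_mul h1 h2).trans (by norm_num)

theorem eq_H (G' : Subgroup P) (hle : G' ≤ Suz.Stab) (hcard : Nat.card G' = 448345497600) : G' = Suz.H := by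
  obtain ⟨f⟩ := Suz.H_spec.1
  haveI : IsSimpleGroup Cfsg.Spor.Suz := SuzP.isSimple
  haveI : IsSimpleGroup Suz.H := f.symm.isSimpleGroup
  have hcardH := Suz.H_spec.2
  have h1 : Suz.H.relIndex Suz.Stab ≤ 2 := by
    have h := (Suz.H.subgroupOf Suz.Stab).card_mul_index
    rw [Nat.card_congr (Subgroup.subgroupOfEquivOfLe Suz.H_le_stab).toEquiv, hcardH] at h
    have := card_stab
    unfold Subgroup.relIndex
    omega
  have h2 : Suz.H.relIndex G' ≤ 2 := (Subgroup.relIndex_le_of_le_right hle Subgroup.FiniteIndex.index_ne_zero).trans h1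
  have h3 := (Suz.H.subgroupOf G').card_mul_index
  rw [hcard] at h3
  have h4 : Nat.card ↥(Suz.H.subgroupOf G') = Nat.card ↥(G'.subgroupOf Suz.H) := by
    rw [← Nat.card_congr ((Suz.H.subgroupOf G').equivMapOfInjective _ G'.subtype_injective).symm.toEquiv,
      ← Nat.card_congr ((G'.subgroupOf Suz.H).equivMapOfInjective _ Suz.H.subtype_injective).symm.toEquiv,
      Subgroup.subgroupOf_map_subtype, Subgroup.subgroupOf_map_subtype, inf_comm]
  have h5 := (G'.subgroupOf Suz.H).card_mul_index
  rw [hcardH, ← h4] at h5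
  have hidx : (G'.subgroupOf Suz.H).index ≤ 2 := by
    have hpos : 0 < Nat.card ↥(Suz.H.subgroupOf G') := Nat.card_pos
    have e : (G'.subgroupOf Suz.H).index = (Suz.H.subgroupOf G').index :=
      Nat.eq_of_mul_eq_mul_left hpos (h5.trans h3.symm)
    rw [e]
    exact h2
  have htop : G'.subgroupOf Suz.H = ⊤ := by
    by_contra hne
    have hidx2 : (G'.subgroupOf Suz.H).index = 2 := by
      have h0 : (G'.subgroupOf Suz.H).index ≠ 0 := Subgroup.index_ne_zero_of_finite
      have h1 : (G'.subgroupOf Suz.H).index ≠ 1 := fun e => hne (Subgroup.index_eq_one.1 e)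
      omega
    haveI := Subgroup.normal_of_index_eq_two hidx2
    rcases IsSimpleGroup.eq_bot_or_eq_top_of_normal _ ‹(G'.subgroupOf Suz.H).Normal› with e | e
    · rw [e, Subgroup.index_bot, hcardH] at hidx2
      norm_num at hidx2
    · exact hne e
  exact (Subgroup.eq_of_le_of_card_ge (Subgroup.subgroupOf_eq_top.1 htop) (by rw [hcard, hcardH])).symm

end CfsgLib.Sporadic.SuzRank
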