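import Cfsg.Agent.Lib.Sporadic.SuzRank.Defs

/-!
The listed conjugates of the group of order 25 are distinct.
-/

set_option autoImplicit false
set_option maxRecDepth 100000
set_option maxHeartbeats 0
set_option Elab.async false

namespace CfsgLib.Sporadic.SuzRank

open CfsgLib.Sporadic.OutCert

theorem pairs_ok : ((List.range 2016).all fun j => Nat.blt (pairAt j).1 300 && Nat.blt (pairAt j).2 18) = true ∧
    Nat.blt obs 416 = true := by decide +kernel

theorem conj_ok : ((List.range 2016).all fun j => match conjTree.get (maskOf (xEl j)) with
    | none => false
    | some e => Nat.beq e.1 j) = true := by decide +kernel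

end CfsgLib.Sporadic.SuzRank
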