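import Cfsg.Agent.Lib.Sporadic.SuzRank.Defs

/-!
Checks on the distant points.
-/

set_option autoImplicit false
set_option maxRecDepth 100000
set_option maxHeartbeats 0
set_option Elab.async false

namespace CfsgLib.Sporadic.SuzRank

open CfsgLib.Sporadic.OutCert

theorem farAll_ok : farTreeK ((List.range 6).map fun x => (x, x)) farAll 1 = true ∧
    treeMask 0 farAll = 2 ^ 1365 - 1 := by decide +kernel

theorem farFix_ok : (farG.all fun e => farMapK e.1 e.2 0 0) = true := by decide +kernel

theorem farTrees_ok : (farTrees.all fun t => Nat.blt t.1 1365) = true ∧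
    (farTrees.all fun t => farTreeK farG t.2 (2 ^ t.1)) = true ∧
    farTrees.map (fun t => t.2.length + 1) = [20, 320, 1024] ∧
    farTrees.foldl (fun s t => s ||| treeMask t.1 t.2) 1 = 2 ^ 1365 - 1 ∧
    ((List.range 3).all fun k => allF (fun v =>
      !Nat.testBit (treeMask (farTrees.getD k (0, [])).1 (farTrees.getD k (0, [])).2) v ||
        Suz.adjK (farAt 0) (farAt v) == Nat.beq k 1) 1365) = true := by decide +kernel

end CfsgLib.Sporadic.SuzRank
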