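import Cfsg.Agent.Lib.Sporadic.SuzRank.Defs

/-!
Checks on the graph.
-/

set_option autoImplicit false
set_option maxRecDepth 100000
set_option maxHeartbeats 0
set_option Elab.async false

namespace CfsgLib.Sporadic.SuzRank

open CfsgLib.Sporadic.OutCert

theorem base_ok : Nat.blt base0 1782 = true ∧ Suz.adjK base0 base0 = false ∧ lk 11 Suz.kPi 0 = base0 := by
  decide +kernel

theorem nb_ok : allF (fun i => Nat.blt (nbAt i) 1782 && (Suz.adjK base0 (nbAt i) &&
    (Suz.adjK (nbAt i) base0 && Nat.beq (lk 9 posK (nbAt i)) i))) 416 = true := by decide +kernel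

theorem far_ok : allF (fun v => Nat.blt (farAt v) 1782 && (!Nat.beq (farAt v) base0 &&
    (!Suz.adjK base0 (farAt v) && Nat.beq (lk 11 farPosK (farAt v)) v))) 1365 = true := by decide +kernel

theorem cover_ok : allF (fun x => Nat.beq x base0 ||
    (if Suz.adjK base0 x then Nat.blt (lk 9 posK x) 416 && Nat.beq (nbAt (lk 9 posK x)) x
    else Nat.blt (lk 11 farPosK x) 1365 && Nat.beq (farAt (lk 11 farPosK x)) x)) 1782 = true := by
  decide +kernel

theorem al_ok : allF (fun i => allF (fun j => aljK i j == Suz.adjK (nbAt i) (nbAt j)) 416) 416 = true := by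
  decide +kernel

theorem mu0_ok : allF (fun i => Nat.testBit mu0 i == muJK 0 i) 416 = true := by decide +kernel

theorem sep_ok : (sepQ.all fun q => Nat.blt q 416) = true ∧
    ((List.range 1365).all fun v => match farTree.get (farKey v) with
      | none => false
      | some e => Nat.beq e.1 v) = true := by decide +kernel

theorem link_ok : ((List.range 6).all fun x => lk 11 (Suz.sTab.getD x 0) base0 == base0 &&
    allF (fun i => lk 11 (Suz.sTab.getD x 0) (nbAt i) == nbAt (lk 9 (genL.getD x 0) i)) 416) = true := by
  decide +kernel

theorem gen_ok : genL.length = 6 ∧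
    (genL.all fun g => allF (fun i => Nat.blt (lk 9 g i) 416) 416) = true := by decide +kernel

theorem aut_ok : (autBase.all fun q => Nat.blt q 416) = true ∧ autBase.length = autCount.length ∧
    ((List.range autBase.length).all fun k => candK k == autCount.getD k 0) = true ∧
    autCount.prod = 503193600 := by decide +kernel

theorem locTree_ok : sigCheck 2 416 locD autBase locTree = true := by decide +kernel

end CfsgLib.Sporadic.SuzRank
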