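import Cfsg.Agent.Lib.Sporadic.SuzRank.Defs

/-!
Checks on the named elements of the point stabiliser.
-/

set_option autoImplicit false
set_option maxRecDepth 100000
set_option maxHeartbeats 0
set_option Elab.async false

namespace CfsgLib.Sporadic.SuzRank

open CfsgLib.Sporadic.OutCert

theorem slp_ok : slpCheck 9 416 genL steps = true := by decide +kernel

theorem names_ok : ([pa, pb, pai, pbi].all fun i => Nat.blt i numEl) = true ∧ nkL.length = 12 ∧
    (nkL.all fun e => (e.1 ++ e.2).all fun i => Nat.blt i numEl) = true ∧ repL.length = 18 ∧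
    (repL.all fun e => (e.1 ++ e.2).all fun i => Nat.blt i numEl) = true ∧
    (farG.all fun e => Nat.blt e.1 numEl && Nat.blt e.2 numEl) = true ∧
    (twoG.all fun e => Nat.blt e.1 numEl && Nat.blt e.2.1 numEl) = true ∧
    (jLevels.all fun L => L.2.1.all fun i => Nat.blt i numEl) = true ∧ numEl = genL.length + steps.length := by
  decide +kernel

theorem inv_ok : (nkL.all fun e => prodK (e.1 ++ e.2) == oneK 9 416) = true ∧
    (repL.all fun e => prodK (e.1 ++ e.2) == oneK 9 416) = true ∧
    prodK [pa, pai] = oneK 9 416 ∧ prodK [pb, pbi] = oneK 9 416 ∧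
    (farG.all fun e => prodK [e.1, e.2] == oneK 9 416) = true ∧
    (twoG.all fun e => prodK [e.1, e.2.1] == oneK 9 416) = true ∧
    ((List.range 6).all fun x => prodK [x, x] == oneK 9 416) = true := by decide +kernel

theorem p_ok : prodK (List.replicate 5 pa) = oneK 9 416 ∧ prodK (List.replicate 5 pb) = oneK 9 416 ∧
    prodK [pa, pb] = prodK [pb, pa] ∧ appL [pa] 0 = 0 ∧ appL [pb] 0 = 0 := by decide +kernel

theorem norm_ok : (nkL.all fun e => [pa, pb].all fun z => (List.range 25).any fun k =>
      prodK (e.1 ++ z :: e.2) == prodK (pEl k).1) = true ∧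
    (nkL.all fun e => Nat.beq (appL e.1 0) 0) = true ∧ (repL.all fun e => Nat.beq (appL e.1 0) 0) = true := by
  decide +kernel

theorem levels_ok : levelsK 9 416 (jLevels.map fun L => ⟨L.1, L.2.1.map val, L.2.2⟩) = true ∧
    (jLevels.map fun L => L.2.2.length + 1).prod = 604800 ∧
    (jLevels.all fun L => L.2.1.all fun i => appL [i] 0 == 0) = true ∧
    ((List.range 5).all fun x => appL [x] 0 == 0) = true := by decide +kernel

theorem two_ok : twoG.length = 12 ∧ ((List.range twoG.length).all fun i =>
    let e := twoG.getD i (0, 0, [], [])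
    let sub := fun (w : List ℕ) => w.map fun k => (twoG.getD k (0, 0, [], [])).1
    (e.2.2.1.all fun k => Nat.blt k i) && prodK [e.1, e.1] == prodK (sub e.2.2.1) &&
      (List.range i).all fun j => ((e.2.2.2.getD j []).all fun k => Nat.blt k i) &&
        prodK [e.1, (twoG.getD j (0, 0, [], [])).1, e.2.1] == prodK (sub (e.2.2.2.getD j []))) = true := by
  decide +kernel

theorem twoTrees_ok : twoTrees.length = 5 ∧
    (twoTrees.all fun t => Nat.blt t.1 416 &&
      treeK (fun g u => lk 9 (val (twoG.getD g (0, 0, [], [])).1) u) twoG.length t.2 (2 ^ t.1)) = true ∧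
    twoMasks.foldl (fun s m => s ||| m) 0 = 2 ^ 416 - 1 ∧
    ((List.range 32).all unionK) = true := by decide +kernel

theorem locTrees_ok : treeK (fun g u => lk 9 (val g) u) 6 locAll 1 = true ∧ treeMask 0 locAll = 2 ^ 416 - 1 ∧
    treeK (fun g u => lk 9 (val g) u) 5 nearTree.2 (2 ^ nearTree.1) = true ∧
    treeK (fun g u => lk 9 (val g) u) 5 awayTree.2 (2 ^ awayTree.1) = true ∧
    Nat.blt nearTree.1 416 = true ∧ Nat.blt awayTree.1 416 = true ∧
    treeMask nearTree.1 nearTree.2 = alAt 0 ∧ treeMask awayTree.1 awayTree.2 = (2 ^ 416 - 2) - alAt 0 ∧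
    (List.range 416).countP (aljK 0) = 100 ∧
    (List.range 416).countP (fun i => aljK 0 i && aljK awayTree.1 i) = 20 := by decide +kernel

end CfsgLib.Sporadic.SuzRank
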