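import Cfsg.Agent.Lib.Sporadic.SuzRank.Defs

/-!
The words for the generators of the stabiliser of a neighbour.
-/

set_option autoImplicit false
set_option maxRecDepth 100000
set_option maxHeartbeats 0
set_option Elab.async false

namespace CfsgLib.Sporadic.SuzRank

open CfsgLib.Sporadic.OutCert

theorem good_ok : (goodW.all fun e => wordsK (goodGens e.1) e.2) = true ∧
    ((List.range 18).all fun r => Nat.beq r 0 || Nat.beq r exc || goodW.any fun e => Nat.beq e.1 r) = true := by
  decide +kernel

theorem pair_ok : (pairW.all fun e => Nat.blt e.1 2016 && wordsK (pairGens e.1) e.2) = true ∧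
    allF (fun j => !Nat.beq (pairAt j).2 exc || mates.contains j || pairW.any fun e => Nat.beq e.1 j) 2016 =
      true ∧ mates.length = 5 ∧
    ((List.range 2016).countP fun j => Nat.beq (pairAt j).2 0) = 1 := by decide +kernel

theorem norm_words_ok : wordsK normGens normW = true := by decide +kernel

end CfsgLib.Sporadic.SuzRank
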