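import Cfsg.Agent.Lib.Sporadic.SuzRank.Local
import Cfsg.Agent.Lib.Sporadic.SuzRank.CheckConj

/-!
The group of order 25 fixing the first neighbour: its normaliser in the stabiliser of that neighbour has
order 300, and its 2016 conjugates are the listed ones.
-/

set_option autoImplicit false
set_option maxRecDepth 100000

namespace CfsgLib.Sporadic.SuzRank

open CfsgLib.Sporadic.OutCert
open scoped Pointwise

/-- The key of an element of the normaliser. -/
noncomputable def normKey (t : ℕ) : ℕ := pk 9 ((autBase.take 6).map (appL (nEl t).1))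

set_option maxHeartbeats 0 in
theorem normKey_ok : ((List.range 300).map normKey).Nodup := by decide +kernel

set_option maxHeartbeats 0 in
theorem lists_ok : ((List.range 2016).all fun j => ((xEl j).1 ++ (xEl j).2).all fun i => Nat.blt i numEl) = true ∧
    ((List.range 300).all fun t => ((nEl t).1 ++ (nEl t).2).all fun i => Nat.blt i numEl) = true := by
  decide +kernel

attribute [local irreducible] lk pkF allF compK oneK genL steps nkL repL pairC conjTree

theorem pa_lt : pa < numEl ∧ pb < numEl ∧ pai < numEl ∧ pbi < numEl := by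
  simpa [Nat.blt_eq] using names_ok.1

/-- The first generator of the group of order 25. -/
noncomputable def ea : K := el pa

/-- The second generator of the group of order 25. -/
noncomputable def eb : K := el pb

theorem el_pai : el pai = ea⁻¹ := by
  have h := prodE_one (l := [pa, pai]) (by simp [pa_lt.1, pa_lt.2.2.1]) inv_ok.2.2.1
  simpa [prodE, ea, mul_eq_one_iff_inv_eq, eq_comm] using h

theorem el_pbi : el pbi = eb⁻¹ := by
  have h := prodE_one (l := [pb, pbi]) (by simp [pa_lt.2.1, pa_lt.2.2.2]) inv_ok.2.2.2.1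
  simpa [prodE, eb, mul_eq_one_iff_inv_eq, eq_comm] using h

theorem ab_comm : Commute ea eb := by
  have h := prodE_eq (l := [pa, pb]) (m := [pb, pa]) (by simp [pa_lt.1, pa_lt.2.1])
    (by simp [pa_lt.1, pa_lt.2.1]) p_ok.2.2.1
  simpa [prodE, ea, eb, Commute, SemiconjBy] using h

theorem ea_pow : ea ^ 5 = 1 := by
  have h := prodE_one (l := List.replicate 5 pa) (fun i hi => (List.eq_of_mem_replicate hi) ▸ pa_lt.1) p_ok.1
  rwa [prodE, List.map_replicate, List.prod_replicate] at h

theorem eb_pow : eb ^ 5 = 1 := by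
  have h := prodE_one (l := List.replicate 5 pb) (fun i hi => (List.eq_of_mem_replicate hi) ▸ pa_lt.2.1) p_ok.2.1
  rwa [prodE, List.map_replicate, List.prod_replicate] at h

theorem prodE_pEl (m : ℕ) : prodE (pEl m).1 = ea ^ (m / 5) * eb ^ (m % 5) ∧
    prodE (pEl m).2 = (ea ^ (m / 5) * eb ^ (m % 5))⁻¹ := by
  constructor
  · simp [pEl, prodE, ea, eb]
  · simp only [pEl, prodE_append]
    simp [prodE, el_pai, el_pbi, mul_inv_rev]

/-- The group of order 25. -/
noncomputable def PSub : Subgroup K := Subgroup.closure {ea, eb}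

theorem mem_PSub {x : K} : x ∈ PSub ↔ ∃ m < 25, prodE (pEl m).1 = x := by
  constructor
  · intro hx
    rw [PSub, ← Subgroup.mem_toSubmonoid, Subgroup.closure_toSubmonoid_of_finite] at hx
    induction hx using Submonoid.closure_induction_left with
    | one => exact ⟨0, by norm_num, by simp [pEl, prodE]⟩
    | mul_left g hg y _ ih =>
      obtain ⟨m, hm, rfl⟩ := ih
      rw [(prodE_pEl m).1]
      rcases hg with rfl | rfl
      · refine ⟨(m / 5 + 1) % 5 * 5 + m % 5, by omega, ?_⟩
        rw [(prodE_pEl _).1, show ((m / 5 + 1) % 5 * 5 + m % 5) / 5 = (m / 5 + 1) % 5 by omega,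
          show ((m / 5 + 1) % 5 * 5 + m % 5) % 5 = m % 5 by omega, ← pow_eq_pow_mod _ ea_pow, pow_succ',
          mul_assoc]
      · refine ⟨m / 5 * 5 + (m % 5 + 1) % 5, by omega, ?_⟩
        rw [(prodE_pEl _).1, show (m / 5 * 5 + (m % 5 + 1) % 5) / 5 = m / 5 by omega,
          show (m / 5 * 5 + (m % 5 + 1) % 5) % 5 = (m % 5 + 1) % 5 by omega, ← pow_eq_pow_mod _ eb_pow,
          pow_succ', ← mul_assoc, ← mul_assoc, (ab_comm.pow_left _).eq]
  · rintro ⟨m, -, rfl⟩
    rw [(prodE_pEl m).1]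
    exact mul_mem (pow_mem (Subgroup.subset_closure (by simp)) _) (pow_mem (Subgroup.subset_closure (by simp)) _)

theorem PSub_five : IsPGroup 5 PSub := fun ⟨x, hx⟩ => ⟨1, Subtype.ext (by
  obtain ⟨m, -, rfl⟩ := mem_PSub.1 hx
  show prodE (pEl m).1 ^ 5 ^ 1 = 1
  rw [pow_one, (prodE_pEl m).1, ((ab_comm.pow_pow _ _).mul_pow), ← pow_mul, ← pow_mul, mul_comm (m / 5),
    mul_comm (m % 5), pow_mul, pow_mul, ea_pow, eb_pow, one_pow, one_pow, one_mul])⟩

theorem ab_J : ea ∈ J ∧ eb ∈ J := by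
  have h1 := appL_eq (l := [pa]) (by simp [pa_lt.1]) (0 : Fin 416)
  have h2 := appL_eq (l := [pb]) (by simp [pa_lt.2.1]) (0 : Fin 416)
  rw [mem_J, mem_J]
  constructor <;> apply Fin.ext
  · rw [show ea = prodE [pa] by simp [prodE, ea]]; exact h1.symm.trans p_ok.2.2.2.1
  · rw [show eb = prodE [pb] by simp [prodE, eb]]; exact h2.symm.trans p_ok.2.2.2.2

theorem PSub_le : PSub ≤ J := (Subgroup.closure_le _).2 (by
  rintro x (rfl | rfl)
  exacts [ab_J.1, ab_J.2])

/-- Conjugation of subgroups. -/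
@[implicit_reducible]
noncomputable def conjAct : MulAction K (Subgroup K) := MulAction.compHom _ (MulAut.conj : K →* MulAut K)

attribute [local instance] conjAct

theorem smul_sub (x : K) (S : Subgroup K) : x • S = MulAut.conj x • S := rfl

theorem mem_smul_sub {x y : K} {S : Subgroup K} : y ∈ x • S ↔ x⁻¹ * y * x ∈ S := by
  rw [smul_sub, Subgroup.mem_pointwise_smul_iff_inv_smul_mem, ← map_inv, MulAut.smul_def, MulAut.conj_apply,
    inv_inv]

/-- The normaliser of the group of order 25. -/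
noncomputable def N : Subgroup K := MulAction.stabilizer K PSub

theorem eq_of_conj_le {x : K} (ha : x * ea * x⁻¹ ∈ PSub) (hb : x * eb * x⁻¹ ∈ PSub) : x ∈ N := by
  have hle : x • PSub ≤ PSub := by
    intro y hy
    rw [mem_smul_sub] at hy
    have hgen : ∀ z ∈ PSub, x * z * x⁻¹ ∈ PSub := by
      intro z hz
      obtain ⟨m, -, rfl⟩ := mem_PSub.1 hz
      rw [(prodE_pEl m).1, show x * (ea ^ (m / 5) * eb ^ (m % 5)) * x⁻¹ =
        (x * ea ^ (m / 5) * x⁻¹) * (x * eb ^ (m % 5) * x⁻¹) by group, ← conj_pow, ← conj_pow]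
      exact mul_mem (pow_mem ha _) (pow_mem hb _)
    have := hgen _ hy
    simpa [mul_assoc] using this
  refine MulAction.mem_stabilizer_iff.2 (Subgroup.eq_of_le_of_card_ge hle (le_of_eq ?_))
  rw [smul_sub]
  exact Nat.card_congr (Subgroup.equivSMul (MulAut.conj x) PSub).toEquiv

theorem nk_facts {k : ℕ} (hk : k < 12) : prodE (nkL.getD k ([], [])).1 ∈ N ∧
    prodE (nkL.getD k ([], [])).1 ∈ J ∧
    prodE (nkL.getD k ([], [])).2 = (prodE (nkL.getD k ([], [])).1)⁻¹ := by
  have hmem : nkL.getD k ([], []) ∈ nkL := by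
    rw [List.getD_eq_getElem _ _ (by rw [names_ok.2.1]; exact hk)]
    exact List.getElem_mem _
  generalize nkL.getD k ([], []) = e at hmem
  have hlt : ∀ i ∈ e.1 ++ e.2, i < numEl := fun i hi => by
    simpa using List.all_eq_true.1 (List.all_eq_true.1 names_ok.2.2.1 e hmem) i hi
  have hinv : prodE e.2 = (prodE e.1)⁻¹ := by
    have h := prodE_one hlt (beq_iff_eq.1 (List.all_eq_true.1 inv_ok.1 e hmem))
    rw [prodE_append] at h
    exact (inv_eq_of_mul_eq_one_right h).symm
  have hP : ∀ z ∈ [pa, pb], prodE e.1 * el z * (prodE e.1)⁻¹ ∈ PSub := by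
    intro z hz
    have h := List.all_eq_true.1 (List.all_eq_true.1 norm_ok.1 e hmem) z hz
    rw [List.any_eq_true] at h
    obtain ⟨m, hm, h⟩ := h
    have hz' : z < numEl := by
      simp at hz; rcases hz with rfl | rfl
      exacts [pa_lt.1, pa_lt.2.1]
    have hl : ∀ i ∈ e.1 ++ z :: e.2, i < numEl := fun i hi => by
      simp only [List.mem_append, List.mem_cons] at hi
      rcases hi with hi | rfl | hi
      exacts [hlt i (List.mem_append_left _ hi), hz', hlt i (List.mem_append_right _ hi)]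
    have hm' : ∀ i ∈ (pEl m).1, i < numEl := fun i hi => by
      simp only [pEl, List.mem_append, List.mem_replicate] at hi
      rcases hi with ⟨-, rfl⟩ | ⟨-, rfl⟩
      exacts [pa_lt.1, pa_lt.2.1]
    have := prodE_eq hl hm' (beq_iff_eq.1 h)
    rw [prodE_append, prodE_cons, hinv] at this
    refine mem_PSub.2 ⟨m, List.mem_range.1 hm, this.symm.trans (mul_assoc _ _ _).symm⟩
  refine ⟨eq_of_conj_le (hP pa (by simp)) (hP pb (by simp)), ?_, hinv⟩
  rw [mem_J]
  apply Fin.ext
  have h := appL_eq (fun i hi => hlt i (List.mem_append_left _ hi)) (0 : Fin 416)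
  exact h.symm.trans (Nat.eq_of_beq_eq_true (List.all_eq_true.1 norm_ok.2.1 e hmem))

theorem PSub_le_N : PSub ≤ N := fun x hx => by
  obtain ⟨m, -, rfl⟩ := mem_PSub.1 hx
  refine eq_of_conj_le ?_ ?_ <;>
    exact mul_mem (mul_mem hx (Subgroup.subset_closure (by simp))) (inv_mem hx)

/-- An element of the normaliser. -/
noncomputable def nE (t : ℕ) : K := prodE (nEl t).1

theorem nE_facts {t : ℕ} (ht : t < 300) : nE t ∈ J ⊓ N ∧ prodE (nEl t).2 = (nE t)⁻¹ := by
  obtain ⟨h1, h2, h3⟩ := nk_facts (k := t / 25) (by omega)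
  have hp : prodE (pEl (t % 25)).1 ∈ PSub := mem_PSub.2 ⟨_, Nat.mod_lt _ (by norm_num), rfl⟩
  have e : nE t = prodE (nkL.getD (t / 25) ([], [])).1 * prodE (pEl (t % 25)).1 := prodE_append _ _
  rw [e]
  refine ⟨Subgroup.mem_inf.2 ⟨mul_mem h2 (PSub_le hp), mul_mem h1 (PSub_le_N hp)⟩, ?_⟩
  rw [mul_inv_rev, ← h3]
  show prodE ((pEl (t % 25)).2 ++ _) = _
  rw [prodE_append, (prodE_pEl _).2, (prodE_pEl _).1]

/-- A representative. -/
noncomputable def rE (r : ℕ) : K := prodE (repL.getD r ([], [])).1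

theorem rE_facts {r : ℕ} (hr : r < 18) : rE r ∈ J ∧ prodE (repL.getD r ([], [])).2 = (rE r)⁻¹ ∧
    ∀ i ∈ (repL.getD r ([], [])).1 ++ (repL.getD r ([], [])).2, i < numEl := by
  have hmem : repL.getD r ([], []) ∈ repL := by
    rw [List.getD_eq_getElem _ _ (by rw [names_ok.2.2.2.1]; exact hr)]
    exact List.getElem_mem _
  unfold rE
  generalize repL.getD r ([], []) = e at hmem
  have hlt : ∀ i ∈ e.1 ++ e.2, i < numEl := fun i hi => by
    simpa using List.all_eq_true.1 (List.all_eq_true.1 names_ok.2.2.2.2.1 e hmem) i hi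
  refine ⟨?_, ?_, hlt⟩
  · rw [mem_J]
    apply Fin.ext
    have h := appL_eq (fun i hi => hlt i (List.mem_append_left _ hi)) (0 : Fin 416)
    exact h.symm.trans (Nat.eq_of_beq_eq_true (List.all_eq_true.1 norm_ok.2.2 e hmem))
  · have h := prodE_one hlt (beq_iff_eq.1 (List.all_eq_true.1 inv_ok.2.1 e hmem))
    rw [prodE_append] at h
    exact (inv_eq_of_mul_eq_one_right h).symm

/-- The conjugating element of a listed conjugate. -/
noncomputable def xE (j : ℕ) : K := nE (pairAt j).1 * rE (pairAt j).2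

theorem pair_lt {j : ℕ} (hj : j < 2016) : (pairAt j).1 < 300 ∧ (pairAt j).2 < 18 := by
  simpa [Bool.and_eq_true, Nat.blt_eq] using List.all_eq_true.1 pairs_ok.1 j (List.mem_range.2 hj)

theorem prodE_xEl {j : ℕ} (hj : j < 2016) : prodE (xEl j).1 = xE j ∧ prodE (xEl j).2 = (xE j)⁻¹ ∧
    ∀ i ∈ (xEl j).1 ++ (xEl j).2, i < numEl := by
  refine ⟨prodE_append _ _, ?_, fun i hi => by
    simpa using List.all_eq_true.1 (List.all_eq_true.1 lists_ok.1 j (List.mem_range.2 hj)) i hi⟩
  show prodE (_ ++ _) = _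
  rw [prodE_append, (rE_facts (pair_lt hj).2).2.1, (nE_facts (pair_lt hj).1).2, xE, mul_inv_rev]

theorem xE_J {j : ℕ} (hj : j < 2016) : xE j ∈ J :=
  mul_mem (Subgroup.mem_inf.1 (nE_facts (pair_lt hj).1).1).1 (rE_facts (pair_lt hj).2).1

theorem foldl_testBit {α : Type*} (f : α → ℕ) (p : ℕ) : ∀ (l : List α) (m : ℕ),
    (l.foldl (fun m k => m ||| 2 ^ f k) m).testBit p = true ↔ m.testBit p = true ∨ ∃ k ∈ l, f k = p
  | [], m => by simp
  | a :: l, m => by
    rw [List.foldl_cons, foldl_testBit f p l, Nat.testBit_lor, Bool.or_eq_true, Nat.testBit_two_pow,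
      decide_eq_true_eq]
    simp only [List.mem_cons, exists_eq_or_imp]
    tauto

theorem mask_testBit {j : ℕ} (hj : j < 2016) (p : ℕ) :
    (maskOf (xEl j)).testBit p = true ↔
      ∃ q ∈ xE j • PSub, ((loc q ⟨obs, by simpa using pairs_ok.2⟩ : Fin 416) : ℕ) = p := by
  obtain ⟨h1, h2, hlt⟩ := prodE_xEl hj
  let o : Fin 416 := ⟨obs, by simpa using pairs_ok.2⟩
  have hlp : ∀ m, ∀ i ∈ (pEl m).1, i < numEl := fun m i hi => by
    simp only [pEl, List.mem_append, List.mem_replicate] at hi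
    rcases hi with ⟨-, rfl⟩ | ⟨-, rfl⟩
    exacts [pa_lt.1, pa_lt.2.1]
  have key : ∀ m, appL (xEl j).1 (appL (pEl m).1 (appL (xEl j).2 obs)) =
      (loc (xE j * prodE (pEl m).1 * (xE j)⁻¹) o : ℕ) := by
    intro m
    rw [show obs = (o : ℕ) from rfl, appL_eq (fun i hi => hlt i (List.mem_append_right _ hi)),
      appL_eq (hlp m), appL_eq (fun i hi => hlt i (List.mem_append_left _ hi)), h1, h2]
    simp [Equiv.Perm.mul_apply]
  rw [maskOf, foldl_testBit]
  simp only [Nat.zero_testBit, Bool.false_eq_true, false_or, List.mem_range]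
  constructor
  · rintro ⟨m, hm, e⟩
    refine ⟨xE j * prodE (pEl m).1 * (xE j)⁻¹, ?_, (key m).symm.trans e⟩
    rw [mem_smul_sub]
    simpa [mul_assoc] using mem_PSub.2 ⟨m, hm, rfl⟩
  · rintro ⟨q, hq, e⟩
    rw [mem_smul_sub] at hq
    obtain ⟨m, hm, hm'⟩ := mem_PSub.1 hq
    refine ⟨m, hm, (key m).trans ?_⟩
    rw [hm', show xE j * ((xE j)⁻¹ * q * xE j) * (xE j)⁻¹ = q by group]
    exact e

theorem conj_injective {i j : ℕ} (hi : i < 2016) (hj : j < 2016) (e : xE i • PSub = xE j • PSub) : i = j := by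
  have hm : maskOf (xEl i) = maskOf (xEl j) := Nat.eq_of_testBit_eq fun p => Bool.eq_iff_iff.2 (by
    rw [mask_testBit hi, mask_testBit hj, e])
  have h1 := List.all_eq_true.1 conj_ok i (List.mem_range.2 hi)
  have h2 := List.all_eq_true.1 conj_ok j (List.mem_range.2 hj)
  rw [hm] at h1
  cases he : conjTree.get (maskOf (xEl j)) with
  | none => simp [he] at h2
  | some v =>
    simp only [he, Nat.beq_eq] at h1 h2
    exact h1.symm.trans h2

theorem nE_injective {s t : ℕ} (hs : s < 300) (ht : t < 300) (e : nE s = nE t) : s = t := by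
  refine List.inj_on_of_nodup_map normKey_ok (List.mem_range.2 hs) (List.mem_range.2 ht) ?_
  have hl : ∀ {t}, t < 300 → ∀ i ∈ (nEl t).1, i < numEl := fun ht i hi => by
    simpa using List.all_eq_true.1 (List.all_eq_true.1 lists_ok.2 _ (List.mem_range.2 ht)) i
      (List.mem_append_left _ hi)
  unfold normKey
  congr 1
  refine List.map_congr_left fun q hq => ?_
  have hq' : q < 416 := by simpa using List.all_eq_true.1 aut_ok.1 q (List.mem_of_mem_take hq)
  rw [show q = ((⟨q, hq'⟩ : Fin 416) : ℕ) from rfl, appL_eq (hl hs), appL_eq (hl ht)]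
  show ((loc (nE s) _ : Fin 416) : ℕ) = ((loc (nE t) _ : Fin 416) : ℕ)
  rw [e]

theorem card_orbit_mul (M : Subgroup K) :
    Nat.card M = (MulAction.orbit M PSub).ncard * Nat.card ↥(M ⊓ N) := by
  rw [← (MulAction.stabilizer M PSub).card_mul_index, MulAction.index_stabilizer, mul_comm]
  congr 1
  exact Nat.card_congr
    { toFun := fun g => ⟨((g : M) : K), Subgroup.mem_inf.2 ⟨(g : M).2, g.2⟩⟩
      invFun := fun g => ⟨⟨g, (Subgroup.mem_inf.1 g.2).1⟩, (Subgroup.mem_inf.1 g.2).2⟩
      left_inv := fun _ => rfl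
      right_inv := fun _ => rfl }

theorem JN_facts : Nat.card ↥(J ⊓ N) = 300 ∧
    ∀ x ∈ J, ∃ j < 2016, x • PSub = xE j • PSub := by
  classical
  let S : Set (Subgroup K) := (fun j => xE j • PSub) '' Set.Iio 2016
  have hS : S ⊆ MulAction.orbit J PSub := by
    rintro _ ⟨j, hj, rfl⟩
    exact ⟨⟨xE j, xE_J hj⟩, rfl⟩
  have hScard : S.ncard = 2016 := by
    have hinj : Set.InjOn (fun j => xE j • PSub) (Set.Iio 2016) := fun i hi j hj e => conj_injective hi hj e
    rw [hinj.ncard_image, ← Finset.coe_Iio, Set.ncard_coe_finset, Nat.card_Iio]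
  have h300 : 300 ≤ Nat.card ↥(J ⊓ N) := by
    have hsub : nE '' Set.Iio 300 ⊆ ↑(J ⊓ N) := by
      rintro _ ⟨t, ht, rfl⟩
      exact (nE_facts ht).1
    have := Set.ncard_le_ncard hsub (Set.toFinite _)
    have hinj : Set.InjOn nE (Set.Iio 300) := fun s hs t ht e => nE_injective hs ht e
    rw [hinj.ncard_image, ← Finset.coe_Iio, Set.ncard_coe_finset, Nat.card_Iio, ← Nat.card_coe_set_eq] at this
    exact this
  have h := card_orbit_mul J
  rw [card_J] at h
  have hle := Set.ncard_le_ncard hS (Set.toFinite _)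
  rw [hScard] at hle
  have ho : (MulAction.orbit J PSub).ncard ≤ 2016 := by nlinarith
  refine ⟨by nlinarith, fun x hx => ?_⟩
  have heq : S = MulAction.orbit J PSub := Set.eq_of_subset_of_ncard_le hS (by rw [hScard]; exact ho) (Set.toFinite _)
  have hmem : x • PSub ∈ MulAction.orbit J PSub := ⟨⟨x, hx⟩, rfl⟩
  rw [← heq] at hmem
  obtain ⟨j, hj, e⟩ := hmem
  exact ⟨j, hj, e.symm⟩

end CfsgLib.Sporadic.SuzRank
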