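import Cfsg.Agent.Lib.Sporadic.OutCert.Suz.Defs
import Cfsg.Agent.Lib.Sporadic.OutCert.Slp
import Cfsg.Agent.Lib.Sporadic.OutCert.OrbitBound
import Cfsg.Agent.Lib.Sporadic.OutCert.GraphCert
import Cfsg.Agent.Lib.Sporadic.SuzRank.Data
import Cfsg.Agent.Lib.Sporadic.SuzRank.DataSlp
import Cfsg.Agent.Lib.Sporadic.SuzRank.DataCert

/-!
The checks used in the recognition of the Suzuki group as a group of degree 1782.
-/

set_option autoImplicit false
set_option maxRecDepth 100000
set_option maxHeartbeats 0
set_option Elab.async false

namespace CfsgLib.Sporadic.SuzRank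

open CfsgLib.Sporadic.OutCert

/-- The point of a neighbour index. -/
def nbAt (i : ℕ) : ℕ := lk 11 nbK i

/-- The point of a distant index. -/
def farAt (v : ℕ) : ℕ := lk 11 farK v

/-- A row of the local graph. -/
def alAt (i : ℕ) : ℕ := (alC.getD (i / 50) []).getD (i % 50) 0

/-- Adjacency in the local graph. -/
def aljK (i j : ℕ) : Bool := Nat.testBit (alAt i) j

/-- A neighbour index is adjacent to a distant index. -/
def muJK (v i : ℕ) : Bool := Suz.adjK (farAt v) (nbAt i)

/-- The classes of pairs in the local graph. -/
def locD (i j : ℕ) : ℕ := if Nat.beq i j then 2 else if aljK i j then 1 else 0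

/-- The key of a distant index: adjacency to the separating neighbours. -/
def farKey (v : ℕ) : ℕ := pk 1 (sepQ.map fun q => (muJK v q).toNat)

/-- The number of an element of the point stabiliser. -/
def val (i : ℕ) : ℕ := slpVal genL steps i

/-- The number of elements named. -/
def numEl : ℕ := genL.length + steps.length

/-- The number of a product of named elements. -/
noncomputable def prodK (l : List ℕ) : ℕ := l.foldr (fun i acc => compK 9 416 (val i) acc) (oneK 9 416)

/-- The image of a neighbour index under a product of named elements. -/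
noncomputable def appL (l : List ℕ) (u : ℕ) : ℕ := appK 9 (l.map val) u

/-- A word in the given lists. -/
def flat (gs : List (List ℕ)) (w : List ℕ) : List ℕ := w.flatMap fun k => gs.getD k []

/-- The two generators of the group of order 25 and their inverses, conjugated. -/
def conjGens (x : List ℕ × List ℕ) : List (List ℕ) := [pa, pai, pb, pbi].map fun z => x.1 ++ z :: x.2

/-- An element of the group of order 25, with its inverse. -/
def pEl (m : ℕ) : List ℕ × List ℕ :=
  (List.replicate (m / 5) pa ++ List.replicate (m % 5) pb, List.replicate (m % 5) pbi ++ List.replicate (m / 5) pai)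

/-- An element of the normaliser, with its inverse. -/
def nEl (t : ℕ) : List ℕ × List ℕ :=
  ((nkL.getD (t / 25) ([], [])).1 ++ (pEl (t % 25)).1, (pEl (t % 25)).2 ++ (nkL.getD (t / 25) ([], [])).2)

/-- A listed conjugate: normaliser element and representative. -/
def pairAt (j : ℕ) : ℕ × ℕ := (pairC.getD (j / 252) []).getD (j % 252) (0, 0)

/-- The conjugating element of a listed conjugate, with its inverse. -/
def xEl (j : ℕ) : List ℕ × List ℕ :=
  let r := repL.getD (pairAt j).2 ([], [])
  ((nEl (pairAt j).1).1 ++ r.1, r.2 ++ (nEl (pairAt j).1).2)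

/-- The orbit of the observed point under a conjugate of the group of order 25. -/
noncomputable def maskOf (x : List ℕ × List ℕ) : ℕ :=
  let y := appL x.2 obs
  (List.range 25).foldl (fun m k => m ||| 2 ^ appL x.1 (appL (pEl k).1 y)) 0

/-- The words express the five generators of the stabiliser of the first neighbour. -/
noncomputable def wordsK (gs : List (List ℕ)) (ws : List (List ℕ)) : Bool :=
  (List.range 5).all fun x => (ws.getD x []).all (fun k => Nat.blt k gs.length) &&
    prodK (flat gs (ws.getD x [])) == val x

/-- The generators used for two exceptional conjugates. -/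
def pairGens (j : ℕ) : List (List ℕ) :=
  [[pa], [pai], [pb], [pbi]] ++ conjGens (repL.getD exc ([], [])) ++ conjGens (xEl j)

/-- The generators used for the normaliser and an exceptional conjugate. -/
def normGens : List (List ℕ) :=
  [[pa], [pai], [pb], [pbi]] ++ conjGens (repL.getD exc ([], [])) ++ (nkL.tail.map Prod.fst)

/-- The generators used for a representative. -/
def goodGens (r : ℕ) : List (List ℕ) := [[pa], [pai], [pb], [pbi]] ++ conjGens (repL.getD r ([], []))

/-- A tree of images of points. -/
noncomputable def treeK (f : ℕ → ℕ → ℕ) (n : ℕ) : List (ℕ × ℕ × ℕ) → ℕ → Bool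
  | [], _ => true
  | e :: l, m => Nat.blt e.2.2 n && (Nat.testBit m e.2.1 && (f e.2.2 e.2.1 == e.1 && treeK f n l (m ||| 2 ^ e.1)))

/-- The points of a tree. -/
def treeMask (b : ℕ) (l : List (ℕ × ℕ × ℕ)) : ℕ := l.foldl (fun m e => m ||| 2 ^ e.1) (2 ^ b)

/-- The image of a distant index has the right neighbours. -/
noncomputable def farMapK (g gi v w : ℕ) : Bool :=
  sepQ.all fun q => muJK v (lk 9 (val gi) q) == muJK w q && Nat.blt (lk 9 (val g) (lk 9 (val gi) q)) 416

/-- A tree on distant indices. -/
noncomputable def farTreeK (gs : List (ℕ × ℕ)) : List (ℕ × ℕ × ℕ) → ℕ → Bool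
  | [], _ => true
  | e :: l, m => Nat.blt e.2.2 gs.length && (Nat.testBit m e.2.1 && (Nat.blt e.1 1365 &&
      (farMapK (gs.getD e.2.2 (0, 0)).1 (gs.getD e.2.2 (0, 0)).2 e.2.1 e.1 && farTreeK gs l (m ||| 2 ^ e.1))))

/-- The number of candidates for a base point. -/
def candK (k : ℕ) : ℕ :=
  (List.range 416).countP fun x =>
    (autBase.take k).all fun q => Nat.beq (locD x q) (locD (autBase.getD k 0) q)

/-- The orbit masks of the group of order 4096. -/
def twoMasks : List ℕ := twoTrees.map fun t => treeMask t.1 t.2

/-- A union of orbits of the group of order 4096. -/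
def unionMask (m : ℕ) : ℕ :=
  (List.range 5).foldl (fun s k => if Nat.testBit m k then s ||| twoMasks.getD k 0 else s) 0

/-- A union of orbits is not the set of neighbours of a distant point unless it is the standard one. -/
def unionK (m : ℕ) : Bool :=
  let S := unionMask m
  (List.range 416).countP (fun i => Nat.testBit S i) != 96 || S == mu0 ||
    (List.range 416).any fun p => Nat.testBit S p &&
      ((List.range 416).countP (fun i => aljK p i && Nat.testBit S i) != 20)

end CfsgLib.Sporadic.SuzRank
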