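import Cfsg.Agent.Lib.Sporadic.SuzRank.Local
import Cfsg.Agent.Lib.Sporadic.SuzRank.CheckFar

/-!
The distant points: transitivity, the orbits of the stabiliser of the first distant point, and the sets
of neighbours invariant under a group of order 4096.
-/

set_option autoImplicit false
set_option maxRecDepth 100000

namespace CfsgLib.Sporadic.SuzRank

open CfsgLib.Sporadic.OutCert
open scoped Classical

set_option maxHeartbeats 0 in
theorem class_size_ok : ((List.range 3).map fun k => (List.range 1365).countP fun v =>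
    Nat.testBit (treeMask (farTrees.getD k (0, [])).1 (farTrees.getD k (0, [])).2) v) = [20, 320, 1024] ∧
    farTrees.length = 3 := by decide +kernel

attribute [local irreducible] lk pkF allF compK oneK genL steps farG farTrees farAll sepQ twoG twoTrees mu0

theorem far_map {g gi : ℕ} (hg : g < numEl) (hgi : gi < numEl) (hinv : prodK [g, gi] = oneK 9 416)
    {v w : Fin 1365} (h : farMapK g gi v w = true) : act (el g) (far v) = far w := by
  have e : el gi = (el g)⁻¹ := by
    have h1 := prodE_one (l := [g, gi]) (by simp [hg, hgi]) hinv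
    simpa [prodE, mul_eq_one_iff_inv_eq, eq_comm] using h1
  obtain ⟨w', hw'⟩ := act_far (el g) v
  rw [← hw']
  congr 1
  refine key_injective fun q hq => ?_
  have hlt : q < 416 := by simpa using List.all_eq_true.1 sep_ok.1 q hq
  have hq' := List.all_eq_true.1 h q hq
  simp only [Bool.and_eq_true, beq_iff_eq] at hq'
  let i : Fin 416 := loc (el gi) ⟨q, hlt⟩
  have hi : (i : ℕ) = lk 9 (val gi) q := (rep_el hgi ⟨q, hlt⟩).symm
  have hm := mu_loc (el g) hw' i
  have hqi : loc (el g) i = ⟨q, hlt⟩ := by
    show loc (el g) (loc (el gi) _) = _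
    rw [e, map_inv, perm_apply_inv]
  rw [hqi] at hm
  have h1 : muJK w' q = muJK v (lk 9 (val gi) q) := by
    rw [← hi]
    exact Bool.eq_iff_iff.2 hm
  rw [h1, hq'.1]

theorem farTree_spec {gs : List (ℕ × ℕ)} {S : Subgroup K}
    (hgs : ∀ e ∈ gs, e.1 < numEl ∧ e.2 < numEl ∧ prodK [e.1, e.2] = oneK 9 416 ∧ el e.1 ∈ S) (b : Fin 1365) :
    ∀ (l : List (ℕ × ℕ × ℕ)) (m : ℕ), farTreeK gs l m = true →
      (∀ p, m.testBit p = true → ∃ k ∈ S, ∃ v : Fin 1365, (v : ℕ) = p ∧ act k (far b) = far v) →
      ∀ p, (l.foldl (fun m e => m ||| 2 ^ e.1) m).testBit p = true →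
        ∃ k ∈ S, ∃ v : Fin 1365, (v : ℕ) = p ∧ act k (far b) = far v
  | [], _, _, hm => hm
  | e :: l, m, h, hm => by
    simp only [farTreeK, Bool.and_eq_true, Nat.blt_eq] at h
    obtain ⟨hg, hq, hlt, hmap, hrest⟩ := h
    refine farTree_spec hgs b l _ hrest fun p hp => ?_
    rw [Nat.testBit_lor, Bool.or_eq_true, Nat.testBit_two_pow, decide_eq_true_eq] at hp
    rcases hp with hp | rfl
    · exact hm p hp
    obtain ⟨k, hk, v, hv, hkv⟩ := hm _ hq
    rw [List.getD_eq_getElem _ _ hg, ← hv] at hmap
    obtain ⟨h1, h2, h3, h4⟩ := hgs _ (List.getElem_mem hg)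
    refine ⟨el gs[e.2.2].1 * k, mul_mem h4 hk, ⟨e.1, hlt⟩, rfl, ?_⟩
    rw [map_mul, Equiv.Perm.mul_apply, hkv]
    exact far_map h1 h2 h3 (w := ⟨e.1, hlt⟩) hmap

theorem trans_far (v : Fin 1365) : ∃ k : K, act k (far 0) = far v := by
  have hgs : ∀ e ∈ (List.range 6).map fun x => (x, x),
      e.1 < numEl ∧ e.2 < numEl ∧ prodK [e.1, e.2] = oneK 9 416 ∧ el e.1 ∈ (⊤ : Subgroup K) := by
    intro e he
    obtain ⟨x, hx, rfl⟩ := List.mem_map.1 he
    have hx6 := List.mem_range.1 hx
    exact ⟨gen_lt hx6, gen_lt hx6, beq_iff_eq.1 (List.all_eq_true.1 inv_ok.2.2.2.2.2.2 x hx), Subgroup.mem_top _⟩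
  obtain ⟨k, -, w, hw, hk⟩ := farTree_spec hgs 0 farAll 1 farAll_ok.1 (fun p hp => by
    refine ⟨1, one_mem _, 0, ?_, by rw [map_one]; rfl⟩
    by_contra hne
    rw [show (1 : ℕ) = 2 ^ 0 from rfl, Nat.testBit_two_pow, decide_eq_true_eq] at hp
    exact hne (hp.symm ▸ rfl)) v (by
      show (treeMask 0 farAll).testBit v = true
      rw [farAll_ok.2, Nat.testBit_two_pow_sub_one]
      exact decide_eq_true v.2)
  exact ⟨k, hk.trans (congrArg far (Fin.ext hw))⟩

/-- The stabiliser of the first distant point. -/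
noncomputable def farStab : Subgroup K := (MulAction.stabilizer P (far 0)).comap act

theorem mem_farStab {k : K} : k ∈ farStab ↔ act k (far 0) = far 0 := Iff.rfl

/-- An orbit of the stabiliser of the first distant point. -/
def farMask (k : ℕ) : ℕ := treeMask (farTrees.getD k (0, [])).1 (farTrees.getD k (0, [])).2

theorem farMask_orbit {k : ℕ} (hk : k < 3) :
    ∃ b : Fin 1365, ∀ v : Fin 1365, (farMask k).testBit v = true → ∃ g ∈ farStab, act g (far b) = far v := by
  have hmem : farTrees.getD k (0, []) ∈ farTrees := by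
    rw [List.getD_eq_getElem _ _ (by rw [class_size_ok.2]; exact hk)]
    exact List.getElem_mem _
  have hb : (farTrees.getD k (0, [])).1 < 1365 := by simpa using List.all_eq_true.1 farTrees_ok.1 _ hmem
  refine ⟨⟨_, hb⟩, fun v hv => ?_⟩
  have hgs : ∀ e ∈ farG, e.1 < numEl ∧ e.2 < numEl ∧ prodK [e.1, e.2] = oneK 9 416 ∧ el e.1 ∈ farStab := by
    intro e he
    have h := List.all_eq_true.1 names_ok.2.2.2.2.2.1 e he
    simp only [Bool.and_eq_true, Nat.blt_eq] at h
    have hi := beq_iff_eq.1 (List.all_eq_true.1 inv_ok.2.2.2.2.1 e he)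
    exact ⟨h.1, h.2, hi, far_map h.1 h.2 hi (v := 0) (w := 0) (List.all_eq_true.1 farFix_ok e he)⟩
  obtain ⟨g, hg, w, hw, hgw⟩ := farTree_spec hgs ⟨_, hb⟩ (farTrees.getD k (0, [])).2 _
    (List.all_eq_true.1 farTrees_ok.2.1 _ hmem) (fun p hp => by
      rw [Nat.testBit_two_pow, decide_eq_true_eq] at hp
      exact ⟨1, one_mem _, ⟨_, hb⟩, hp, by rw [map_one]; rfl⟩) v hv
  exact ⟨g, hg, hgw.trans (congrArg far (Fin.ext hw))⟩

theorem farMask_cover (v : Fin 1365) : v = 0 ∨ ∃ k < 3, (farMask k).testBit v = true := by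
  have key : ∀ (l : List (ℕ × List (ℕ × ℕ × ℕ))) (s : ℕ) (p : ℕ),
      (l.foldl (fun s t => s ||| treeMask t.1 t.2) s).testBit p = true →
        s.testBit p = true ∨ ∃ t ∈ l, (treeMask t.1 t.2).testBit p = true := by
    intro l
    induction l with
    | nil => exact fun s p h => Or.inl h
    | cons t l ih =>
      intro s p h
      rcases ih _ _ h with h | ⟨t', ht', h⟩
      · rw [Nat.testBit_lor, Bool.or_eq_true] at h
        exact h.imp id fun h => ⟨t, List.mem_cons_self, h⟩
      · exact Or.inr ⟨t', List.mem_cons_of_mem _ ht', h⟩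
  rcases key farTrees 1 v (by
    rw [farTrees_ok.2.2.2.1, Nat.testBit_two_pow_sub_one]; exact decide_eq_true v.2) with h | ⟨t, ht, h⟩
  · rw [show (1 : ℕ) = 2 ^ 0 from rfl, Nat.testBit_two_pow, decide_eq_true_eq] at h
    exact Or.inl (Fin.ext h.symm)
  · obtain ⟨k, hk, rfl⟩ := List.getElem_of_mem ht
    refine Or.inr ⟨k, by rw [← class_size_ok.2]; exact hk, ?_⟩
    rw [farMask, List.getD_eq_getElem _ _ hk]
    exact h

theorem farMask_adj {k : ℕ} (hk : k < 3) {v : Fin 1365} (h : (farMask k).testBit v = true) :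
    Adj (far 0) (far v) ↔ k = 1 := by
  have h' := allF_iff.1 (List.all_eq_true.1 farTrees_ok.2.2.2.2 k (List.mem_range.2 hk)) v v.2
  rw [Bool.or_eq_true, Bool.not_eq_true'] at h'
  rcases h' with h' | h'
  · rw [show (farMask k).testBit v = false from h'] at h
    simp at h
  · rw [beq_iff_eq] at h'
    show Suz.adjK (farAt ((0 : Fin 1365) : ℕ)) (farAt v) = true ↔ _
    rw [show ((0 : Fin 1365) : ℕ) = 0 from rfl, h', Nat.beq_eq]

theorem card_farMask {k : ℕ} (hk : k < 3) :
    (Finset.univ.filter fun v : Fin 1365 => (farMask k).testBit v = true).card = [20, 320, 1024].getD k 0 := by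
  rw [card_filter_range (b := fun v => (farMask k).testBit v) fun v => Iff.rfl, ← class_size_ok.1,
    List.getD_eq_getElem _ _ (by simp [hk]), List.getElem_map, List.getElem_range]
  rfl

/-- An invariant set of 320 distant points consists of the neighbours of the first one. -/
theorem far_class (W : Fin 1365 → Prop) (h0 : ¬ W 0)
    (hinv : ∀ g ∈ farStab, ∀ v w, act g (far v) = far w → (W v ↔ W w))
    (hcard : (Finset.univ.filter W).card = 320) : ∀ v, W v ↔ Adj (far 0) (far v) := by
  have hconst : ∀ k < 3, ∀ v w : Fin 1365, (farMask k).testBit v = true → (farMask k).testBit w = true →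
      (W v ↔ W w) := by
    intro k hk v w hv hw
    obtain ⟨b, hb⟩ := farMask_orbit hk
    obtain ⟨g, hg, e⟩ := hb v hv
    obtain ⟨g', hg', e'⟩ := hb w hw
    exact (hinv g hg b v e).symm.trans (hinv g' hg' b w e')
  have hbig : ∀ v, W v → (farMask 2).testBit v = false := by
    intro v hv
    by_contra h
    rw [Bool.not_eq_false] at h
    have hle : (Finset.univ.filter fun w : Fin 1365 => (farMask 2).testBit w = true).card ≤
        (Finset.univ.filter W).card := Finset.card_le_card fun w hw => by
      simp only [Finset.mem_filter, Finset.mem_univ, true_and] at hw ⊢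
      exact (hconst 2 (by norm_num) v w h hw).1 hv
    rw [hcard, card_farMask (by norm_num)] at hle
    simp at hle
  have hcases : ∀ v, W v → (farMask 0).testBit v = true ∨ (farMask 1).testBit v = true := by
    intro v hv
    rcases farMask_cover v with rfl | ⟨k, hk, h⟩
    · exact absurd hv h0
    interval_cases k
    · exact Or.inl h
    · exact Or.inr h
    · rw [hbig v hv] at h; simp at h
  obtain ⟨v1, hv1, hm1⟩ : ∃ v, W v ∧ (farMask 1).testBit v = true := by
    by_contra hno
    have hle : (Finset.univ.filter W).card ≤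
        (Finset.univ.filter fun w : Fin 1365 => (farMask 0).testBit w = true).card := Finset.card_le_card fun w hw => by
      simp only [Finset.mem_filter, Finset.mem_univ, true_and] at hw ⊢
      exact (hcases w hw).resolve_right fun h => hno ⟨w, hw, h⟩
    rw [hcard, card_farMask (by norm_num)] at hle
    simp at hle
  have heq : Finset.univ.filter (fun w : Fin 1365 => (farMask 1).testBit w = true) = Finset.univ.filter W := by
    refine Finset.eq_of_subset_of_card_le (fun w hw => ?_) (by rw [hcard, card_farMask (by norm_num)]; rfl)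
    simp only [Finset.mem_filter, Finset.mem_univ, true_and] at hw ⊢
    exact (hconst 1 (by norm_num) v1 w hm1 hw).1 hv1
  intro v
  constructor
  · intro hv
    have := (Finset.ext_iff.1 heq v).2 (by simp [hv])
    simp only [Finset.mem_filter, Finset.mem_univ, true_and] at this
    exact (farMask_adj (by norm_num) this).2 rfl
  · intro h
    rcases farMask_cover v with rfl | ⟨k, hk, hm⟩
    · exact absurd h (adj_irrefl _)
    have hk1 := (farMask_adj hk hm).1 h
    subst hk1
    simpa using (Finset.ext_iff.1 heq v).1 (by simp [hm])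

/-! ### The group of order 4096 -/

/-- The named generators, by position. -/
noncomputable def twoEl (i : ℕ) : K := el (twoG.getD i (0, 0, [], [])).1

/-- The subgroup of the first generators. -/
noncomputable def twoUpto (n : ℕ) : Subgroup K := Subgroup.closure (twoEl '' Set.Iio n)

/-- The group of order 4096. -/
noncomputable def Two : Subgroup K := twoUpto 12

theorem two_lt {i : ℕ} (hi : i < 12) :
    (twoG.getD i (0, 0, [], [])).1 < numEl ∧ (twoG.getD i (0, 0, [], [])).2.1 < numEl ∧
      el (twoG.getD i (0, 0, [], [])).2.1 = (twoEl i)⁻¹ := by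
  have hmem : twoG.getD i (0, 0, [], []) ∈ twoG := by
    rw [List.getD_eq_getElem _ _ (by rw [two_ok.1]; exact hi)]
    exact List.getElem_mem _
  have h := List.all_eq_true.1 names_ok.2.2.2.2.2.2.1 _ hmem
  simp only [Bool.and_eq_true, Nat.blt_eq] at h
  have h1 := prodE_one (l := [_, _]) (by
    intro j hj
    simp only [List.mem_cons, List.not_mem_nil, or_false] at hj
    rcases hj with rfl | rfl
    exacts [h.1, h.2]) (beq_iff_eq.1 (List.all_eq_true.1 inv_ok.2.2.2.2.2.1 _ hmem))
  refine ⟨h.1, h.2, ?_⟩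
  have h2 : twoEl i * el (twoG.getD i (0, 0, [], [])).2.1 = 1 := by
    simpa [prodE, twoEl] using h1
  exact (inv_eq_of_mul_eq_one_right h2).symm

theorem two_word {i : ℕ} (hi : i ≤ 12) {w : List ℕ} (hw : ∀ k ∈ w, k < i) :
    prodE (w.map fun k => (twoG.getD k (0, 0, [], [])).1) ∈ twoUpto i ∧
      ∀ j ∈ w.map (fun k => (twoG.getD k (0, 0, [], [])).1), j < numEl := by
  constructor
  · unfold prodE
    refine list_prod_mem fun x hx => ?_
    simp only [List.map_map, List.mem_map] at hx
    obtain ⟨k, hk, rfl⟩ := hx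
    exact Subgroup.subset_closure ⟨k, hw k hk, rfl⟩
  · intro j hj
    obtain ⟨k, hk, rfl⟩ := List.mem_map.1 hj
    exact (two_lt (lt_of_lt_of_le (hw k hk) hi)).1

theorem two_step {i : ℕ} (hi : i < 12) :
    twoEl i * twoEl i ∈ twoUpto i ∧ ∀ j < i, twoEl i * twoEl j * (twoEl i)⁻¹ ∈ twoUpto i := by
  have h := List.all_eq_true.1 two_ok.2 i (List.mem_range.2 (by rw [two_ok.1]; exact hi))
  simp only [Bool.and_eq_true, List.all_eq_true, Nat.blt_eq, beq_iff_eq, List.mem_range] at h
  obtain ⟨⟨hw, hsq⟩, hconj⟩ := h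
  obtain ⟨h1, h2, h3⟩ := two_lt hi
  constructor
  · obtain ⟨hm, hl⟩ := two_word hi.le hw
    have e := prodE_eq (l := [(twoG.getD i (0, 0, [], [])).1, (twoG.getD i (0, 0, [], [])).1]) (fun j hj => by
      simp only [List.mem_cons, List.not_mem_nil, or_false, or_self] at hj
      rw [hj]
      exact h1) hl hsq
    have e' : twoEl i * twoEl i = prodE [(twoG.getD i (0, 0, [], [])).1, (twoG.getD i (0, 0, [], [])).1] := by
      simp [prodE, twoEl]
    rw [e', e]
    exact hm
  · intro j hj
    obtain ⟨hw', hc⟩ := hconj j hj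
    obtain ⟨hm, hl⟩ := two_word hi.le hw'
    have hl' : ∀ k ∈ [(twoG.getD i (0, 0, [], [])).1, (twoG.getD j (0, 0, [], [])).1,
        (twoG.getD i (0, 0, [], [])).2.1], k < numEl := by
      intro k hk
      simp only [List.mem_cons, List.not_mem_nil, or_false] at hk
      rcases hk with rfl | rfl | rfl
      exacts [h1, (two_lt (by omega)).1, h2]
    have e := prodE_eq hl' hl hc
    have e' : twoEl i * twoEl j * (twoEl i)⁻¹ = prodE [(twoG.getD i (0, 0, [], [])).1,
        (twoG.getD j (0, 0, [], [])).1, (twoG.getD i (0, 0, [], [])).2.1] := by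
      rw [← h3]
      simp [prodE, twoEl, mul_assoc]
    rw [e', e]
    exact hm

theorem two_pgroup : ∀ i, i ≤ 12 → IsPGroup 2 (twoUpto i)
  | 0, _ => by
    have e : twoUpto 0 = ⊥ := by simp [twoUpto]
    rw [e]
    exact IsPGroup.of_bot
  | i + 1, hi => by
    have ih := two_pgroup i (by omega)
    obtain ⟨hsq, hconj⟩ := two_step (i := i) (by omega)
    obtain ⟨k, hk⟩ := ih ⟨_, hsq⟩
    have hZ : IsPGroup 2 (Subgroup.zpowers (twoEl i)) := by
      intro ⟨x, hx⟩
      refine ⟨k + 1, Subtype.ext ?_⟩
      obtain ⟨z, rfl⟩ := Subgroup.mem_zpowers_iff.1 hx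
      have hpow : twoEl i ^ 2 ^ (k + 1) = 1 := by
        rw [pow_succ', pow_mul, sq]
        exact congrArg Subtype.val hk
      show (twoEl i ^ z) ^ 2 ^ (k + 1) = 1
      rw [← zpow_natCast, ← zpow_mul, mul_comm, zpow_mul, zpow_natCast, hpow, one_zpow]
    have hle : Subgroup.zpowers (twoEl i) ≤ Subgroup.normalizer (twoUpto i : Set K) := by
      rw [Subgroup.zpowers_le]
      refine Subgroup.mem_normalizer_fintype fun y hy => ?_
      rw [SetLike.mem_coe] at hy ⊢
      induction hy using Subgroup.closure_induction with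
      | mem y hy =>
        obtain ⟨j, hj, rfl⟩ := hy
        exact hconj j hj
      | one => simp
      | mul a b _ _ ha hb =>
        rw [show twoEl i * (a * b) * (twoEl i)⁻¹ = twoEl i * a * (twoEl i)⁻¹ * (twoEl i * b * (twoEl i)⁻¹) by group]
        exact mul_mem ha hb
      | inv a _ ha =>
        rw [show twoEl i * a⁻¹ * (twoEl i)⁻¹ = (twoEl i * a * (twoEl i)⁻¹)⁻¹ by group]
        exact inv_mem ha
    have e : twoUpto (i + 1) = Subgroup.zpowers (twoEl i) ⊔ twoUpto i := by
      rw [twoUpto, show Set.Iio (i + 1) = insert i (Set.Iio i) by ext; simp only [Set.mem_Iio, Set.mem_insert_iff]; omega, Set.image_insert_eq,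
        Set.insert_eq, Subgroup.closure_union, ← Subgroup.zpowers_eq_closure]
      rfl
    rw [e]
    exact hZ.to_sup_of_normal_right' ih hle

theorem unionMask_testBit (m i : ℕ) :
    (unionMask m).testBit i = true ↔ ∃ k < 5, m.testBit k = true ∧ (twoMasks.getD k 0).testBit i = true := by
  have key : ∀ (l : List ℕ) (s : ℕ),
      (l.foldl (fun s k => if Nat.testBit m k then s ||| twoMasks.getD k 0 else s) s).testBit i = true ↔
        s.testBit i = true ∨ ∃ k ∈ l, m.testBit k = true ∧ (twoMasks.getD k 0).testBit i = true := by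
    intro l
    induction l with
    | nil => simp
    | cons a l ih =>
      intro s
      rw [List.foldl_cons, ih]
      by_cases h : m.testBit a = true
      · rw [if_pos h, Nat.testBit_lor, Bool.or_eq_true]
        simp only [List.mem_cons, exists_eq_or_imp, h, true_and]
        tauto
      · rw [if_neg h]
        simp only [List.mem_cons, exists_eq_or_imp, h, Bool.false_eq_true, false_and, false_or]
  rw [unionMask, key]
  simp

/-- An invariant regular set of 96 neighbours is the set of neighbours of the first distant point. -/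
theorem two_class (S : Fin 416 → Prop) (hinv : ∀ g ∈ Two, ∀ i, S (loc g i) ↔ S i)
    (hcard : (Finset.univ.filter S).card = 96)
    (hreg : ∀ p, S p → (Finset.univ.filter fun i => Alj p i ∧ S i).card = 20) (i : Fin 416) : S i ↔ Mu 0 i := by
  obtain ⟨hlen, htree, hcov, hunion⟩ := twoTrees_ok
  have hmask : ∀ k < 5, ∃ b : Fin 416, ∀ i : Fin 416, (twoMasks.getD k 0).testBit i = true → (S i ↔ S b) := by
    intro k hk
    have hk' : k < twoTrees.length := by rw [hlen]; exact hk
    have h := List.all_eq_true.1 htree _ (List.getElem_mem hk')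
    simp only [Bool.and_eq_true, Nat.blt_eq] at h
    refine ⟨⟨_, h.1⟩, fun i hi => ?_⟩
    rw [twoMasks, List.getD_eq_getElem _ _ (by simp [hk']), List.getElem_map] at hi
    obtain ⟨g, hg, rfl⟩ := orbit_of_tree (gens := fun g => (twoG.getD g (0, 0, [], [])).1) (n := twoG.length)
      (fun g hg => (two_lt (by rw [← two_ok.1]; exact hg)).1) (b := ⟨_, h.1⟩) Two
      (fun g hg => Subgroup.subset_closure ⟨g, by rw [← two_ok.1]; exact hg, rfl⟩) h.2 hi
    exact hinv g hg _
  choose rep hrep using hmask
  let M : ℕ := ((List.range 5).filter fun k => if h : k < 5 then decide (S (rep k h)) else false).foldl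
    (fun s k => s ||| 2 ^ k) 0
  have hbit : ∀ k, M.testBit k = true ↔ ∃ h : k < 5, S (rep k h) := by
    intro k
    have key : ∀ (l : List ℕ) (s : ℕ), (l.foldl (fun s j => s ||| 2 ^ j) s).testBit k = true ↔
        s.testBit k = true ∨ k ∈ l := by
      intro l
      induction l with
      | nil => simp
      | cons a l ih =>
        intro s
        rw [List.foldl_cons, ih, Nat.testBit_lor, Bool.or_eq_true, Nat.testBit_two_pow, decide_eq_true_eq,
          List.mem_cons]
        constructor
        · rintro ((h | h) | h)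
          exacts [Or.inl h, Or.inr (Or.inl h.symm), Or.inr (Or.inr h)]
        · rintro (h | h | h)
          exacts [Or.inl (Or.inl h), Or.inl (Or.inr h.symm), Or.inr h]
    simp only [M, key, Nat.zero_testBit, Bool.false_eq_true, false_or, List.mem_filter, List.mem_range]
    constructor
    · rintro ⟨h, h'⟩
      rw [dif_pos h, decide_eq_true_eq] at h'
      exact ⟨h, h'⟩
    · rintro ⟨h, h'⟩
      exact ⟨h, by rw [dif_pos h]; exact decide_eq_true h'⟩
  have hM : M < 32 := by
    refine Nat.lt_pow_two_of_testBit (n := 5) M fun k hk => ?_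
    by_contra h
    rw [Bool.not_eq_false] at h
    obtain ⟨hk5, -⟩ := (hbit k).1 h
    omega
  have hcover : ∀ i : Fin 416, ∃ k < 5, (twoMasks.getD k 0).testBit i = true := by
    intro i
    have key : ∀ (l : List ℕ) (s : ℕ), (l.foldl (fun s m => s ||| m) s).testBit i = true →
        s.testBit i = true ∨ ∃ k < l.length, (l.getD k 0).testBit i = true := by
      intro l
      induction l with
      | nil => exact fun s h => Or.inl h
      | cons a l ih =>
        intro s h
        rcases ih _ h with h | ⟨k, hk, h⟩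
        · rw [Nat.testBit_lor, Bool.or_eq_true] at h
          exact h.imp id fun h => ⟨0, by simp, h⟩
        · exact Or.inr ⟨k + 1, by simp [hk], h⟩
    rcases key twoMasks 0 (by rw [hcov, Nat.testBit_two_pow_sub_one]; exact decide_eq_true i.2) with h | ⟨k, hk, h⟩
    · simp at h
    · exact ⟨k, by simpa [twoMasks, hlen] using hk, h⟩
  have hS : ∀ i : Fin 416, S i ↔ (unionMask M).testBit i = true := by
    intro i
    rw [unionMask_testBit]
    constructor
    · intro hi
      obtain ⟨k, hk, h⟩ := hcover i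
      exact ⟨k, hk, (hbit k).2 ⟨hk, (hrep k hk i h).1 hi⟩, h⟩
    · rintro ⟨k, hk, hm, h⟩
      obtain ⟨hk', hs⟩ := (hbit k).1 hm
      exact (hrep k hk i h).2 hs
  have hu := List.all_eq_true.1 hunion M (List.mem_range.2 hM)
  simp only [unionK, Bool.or_eq_true, bne_iff_ne, beq_iff_eq, List.any_eq_true, List.mem_range,
    Bool.and_eq_true] at hu
  rcases hu with (hu | hu) | ⟨p, hp, hpS, hu⟩
  · rw [← card_filter_range (p := S) (b := fun i => (unionMask M).testBit i) hS] at hu
    exact absurd hcard hu
  · rw [hS, hu, beq_iff_eq.1 (allF_iff.1 mu0_ok i i.2)]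
    exact Iff.rfl
  · refine absurd (hreg ⟨p, hp⟩ ((hS ⟨p, hp⟩).2 hpS)) ?_
    rw [card_filter_range (b := fun j => aljK p j && (unionMask M).testBit j) fun j => by
      rw [Bool.and_eq_true, ← hS j]; exact Iff.rfl]
    exact hu

end CfsgLib.Sporadic.SuzRank
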