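import Cfsg.Agent.Lib.Sporadic.SuzRank.Labelling
import Cfsg.Agent.Lib.Sporadic.SuzRank.Far
import Cfsg.Agent.Lib.Sporadic.SuzRank.Aut
import Cfsg.Agent.Lib.Chevalley.G2Two.Transfer

/-!
A transitive group of degree 1782 with point stabiliser G₂(4) and suborbits of sizes 416 and 1365 is the
sporadic Suzuki group.
-/

set_option autoImplicit false
set_option maxRecDepth 100000

open scoped Classical

namespace CfsgLib.Sporadic.SuzRank

open CfsgLib.Sporadic.OutCert
open CfsgLib.Sporadic.CosetCert (SuzG.equivG2)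
open CfsgLib.Sporadic (FieldFour)

attribute [local irreducible] lk pkF allF compK oneK alAt genL steps

variable {Ω : Type*} [Fintype Ω] [DecidableEq Ω] {G : Subgroup (Equiv.Perm Ω)} {a b c : Ω}
  {R : Ω → Ω → Prop}

theorem NearLabel.symm_smul (L : NearLabel G a R) (d : GraphData G a b c R) (k : MulAction.stabilizer G a)
    (i : Fin 416) : (L.e.symm (loc (L.θ k) i) : Ω) = k • (L.e.symm i : Ω) := by
  have hm := d.smul_near k (L.e.symm i).2
  have := L.equiv k (L.e.symm i) hm
  rw [Equiv.apply_symm_apply] at this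
  rw [← this, Equiv.symm_apply_apply]

/-- The point `c` may be replaced by another point of its suborbit. -/
theorem GraphData.move (d : GraphData G a b c R) (k : MulAction.stabilizer G a) :
    GraphData G a b (k • c) R where
  symm := d.symm
  irrefl := d.irrefl
  inv := d.inv
  base := d.base
  cover := fun y h1 h2 => by rw [MulAction.orbit_smul]; exact d.cover y h1 h2
  ac := fun e => d.ac (MulAction.injective k ((show k • a = a from k.2).trans e))
  nac := fun e => d.nac (by
    have h2 := d.smul_near k⁻¹ e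
    rwa [inv_smul_smul] at h2)
  degree := d.degree
  count := by
    have e : (Finset.univ.filter fun z => R a z ∧ R (k • c) z).card =
        (Finset.univ.filter fun z => R a z ∧ R c z).card := by
      refine (Finset.card_equiv (MulAction.toPerm (k : G)) fun z => ?_).symm
      simp only [Finset.mem_filter, Finset.mem_univ, true_and, MulAction.toPerm_apply]
      have h1 := d.inv (k : G) a z
      rw [show (k : G) • a = a from k.2] at h1
      rw [h1, show R (k • c) ((k : G) • z) ↔ R c z from d.inv (k : G) c z]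
    rw [e]
    exact d.count
  not_full := d.not_full

/-- A distant point whose neighbours among the neighbours of `a` are those of the first distant point of
the model. -/
theorem exists_standard [MulAction.IsPretransitive G Ω] (d : GraphData G a b c R)
    (hc : (MulAction.orbit (MulAction.stabilizer G a) c).ncard = 1365) (L : NearLabel G a R) :
    ∃ k : MulAction.stabilizer G a, ∀ i, R (k • c) (L.e.symm i : Ω) ↔ Mu 0 i := by
  have h2 : Fact (Nat.Prime 2) := ⟨by norm_num⟩
  have hKc : Nat.card (MulAction.stabilizer (MulAction.stabilizer G a) c) = 184320 := by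
    have h := (MulAction.stabilizer (MulAction.stabilizer G a) c).card_mul_index
    rw [MulAction.index_stabilizer, hc, Nat.card_congr L.θ.toEquiv, card_K] at h
    omega
  obtain ⟨P0, hP0⟩ := Sylow.exists_subgroup_card_pow_prime 2 (n := 12)
    (G := MulAction.stabilizer (MulAction.stabilizer G a) c) (by rw [hKc]; norm_num)
  let emb : MulAction.stabilizer (MulAction.stabilizer G a) c →* K :=
    L.θ.toMonoidHom.comp (Subgroup.subtype _)
  have hemb : Function.Injective emb := L.θ.injective.comp Subtype.val_injective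
  have hP : Nat.card ↥(P0.map emb) = 4096 := by
    rw [Nat.card_congr (P0.equivMapOfInjective emb hemb).symm.toEquiv, hP0]; norm_num
  have hfact : (Nat.card K).factorization 2 = 12 := by
    rw [card_K]
    refine le_antisymm ?_ ((Nat.Prime.pow_dvd_iff_le_factorization (by norm_num) (by norm_num)).1 (by norm_num))
    by_contra hgt
    have := (Nat.Prime.pow_dvd_iff_le_factorization (p := 2) (k := 13) (by norm_num)
      (by norm_num : (251596800 : ℕ) ≠ 0)).2 (by omega)
    norm_num at this
  let S1 : Sylow 2 K := Sylow.ofCard (P0.map emb) (by rw [hfact, hP]; norm_num)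
  obtain ⟨S2, hS2⟩ := (two_pgroup 12 le_rfl).exists_le_sylow
  obtain ⟨u, hu⟩ := MulAction.exists_smul_eq K S1 S2
  refine ⟨L.θ.symm u, ?_⟩
  have hfix : ∀ g ∈ Two, L.θ.symm g • L.θ.symm u • c = L.θ.symm u • c := by
    intro g hg
    have hmem : g ∈ ((u • S1 : Sylow 2 K) : Subgroup K) := by rw [hu]; exact hS2 hg
    rw [Sylow.coe_subgroup_smul] at hmem
    obtain ⟨z, hz, hzeq⟩ := hmem
    obtain ⟨h, -, rfl⟩ : ∃ h ∈ P0, emb h = z := Subgroup.mem_map.1 hz
    have e : g = u * L.θ (h : MulAction.stabilizer G a) * u⁻¹ := hzeq.symm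
    rw [e, map_mul, map_mul, map_inv, MulEquiv.symm_apply_apply, mul_smul, mul_smul, inv_smul_smul]
    exact congrArg (L.θ.symm u • ·) h.2
  have d' := d.move (L.θ.symm u)
  obtain ⟨hadj, hμ⟩ := L.adjacency d'
  generalize L.θ.symm u • c = c' at hfix d' hμ ⊢
  refine two_class (fun i => R c' (L.e.symm i : Ω)) (fun g hg i => ?_) ?_ fun p hp => ?_
  · obtain ⟨m, rfl⟩ := L.θ.surjective g
    have hm := hfix _ hg
    rw [MulEquiv.symm_apply_apply] at hm
    rw [L.symm_smul d']
    have h := d'.inv (m : G) c' (L.e.symm i : Ω)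
    rwa [show (m : G) • c' = c' from hm] at h
  · rw [← hμ]
    refine Finset.card_bij (fun i _ => (L.e.symm i : Ω)) (fun i hi => ?_) (fun i _ j _ e => ?_) (fun z hz => ?_)
    · simp only [Finset.mem_filter, Finset.mem_univ, true_and] at hi ⊢
      exact ⟨(L.e.symm i).2, hi⟩
    · exact L.e.symm.injective (Subtype.ext e)
    · simp only [Finset.mem_filter, Finset.mem_univ, true_and] at hz
      refine ⟨L.e ⟨z, hz.1⟩, ?_, by rw [Equiv.symm_apply_apply]⟩
      simp only [Finset.mem_filter, Finset.mem_univ, true_and, Equiv.symm_apply_apply]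
      exact hz.2
  · obtain ⟨g, hg⟩ := MulAction.exists_smul_eq G a (L.e.symm p : Ω)
    have hpull : ∀ {x : Ω}, R (L.e.symm p : Ω) x → R a (g⁻¹ • x) := fun hx => by
      rw [← d'.inv g, hg, smul_inv_smul]; exact hx
    let ta : {y // R a y} := ⟨g⁻¹ • a, hpull (d'.symm (L.e.symm p).2)⟩
    let tc : {y // R a y} := ⟨g⁻¹ • c', hpull (d'.symm hp)⟩
    have hna : ¬ Alj (L.e ta) (L.e tc) := by
      rw [← hadj, d'.inv]; exact d'.nac
    have hne : L.e ta ≠ L.e tc := fun e =>
      d'.ac (MulAction.injective _ (congrArg Subtype.val (L.e.injective e)))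
    rw [← card_away_com hna hne]
    have hR : ∀ {i}, Alj p i → R (L.e.symm p : Ω) (L.e.symm i : Ω) := fun h => by
      rw [hadj, Equiv.apply_symm_apply, Equiv.apply_symm_apply]; exact h
    refine Finset.card_bij (fun i hi => L.e ⟨g⁻¹ • (L.e.symm i : Ω), hpull (hR (Finset.mem_filter.1 hi).2.1)⟩)
      (fun i hi => ?_) (fun i _ j _ e => ?_) (fun j hj => ?_)
    · simp only [Finset.mem_filter, Finset.mem_univ, true_and] at hi ⊢
      rw [← hadj, ← hadj, d'.inv, d'.inv]
      exact ⟨(L.e.symm i).2, hi.2⟩
    · have := congrArg Subtype.val (L.e.injective e)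
      exact L.e.symm.injective (Subtype.ext (MulAction.injective _ this))
    · simp only [Finset.mem_filter, Finset.mem_univ, true_and] at hj
      have hja : R a (g • (L.e.symm j : Ω)) := by
        have := hj.1
        rw [← Equiv.apply_symm_apply L.e j, ← hadj, ← d'.inv g] at this
        rwa [smul_inv_smul] at this
      have hjc : R c' (g • (L.e.symm j : Ω)) := by
        have := hj.2
        rw [← Equiv.apply_symm_apply L.e j, ← hadj, ← d'.inv g] at this
        rwa [smul_inv_smul] at this
      have hjp : R (L.e.symm p : Ω) (g • (L.e.symm j : Ω)) := by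
        rw [← hg, d'.inv]; exact (L.e.symm j).2
      refine ⟨L.e ⟨g • (L.e.symm j : Ω), hja⟩, ?_, ?_⟩
      · simp only [Finset.mem_filter, Finset.mem_univ, true_and, Equiv.symm_apply_apply]
        refine ⟨?_, hjc⟩
        rw [← Equiv.apply_symm_apply L.e p, ← hadj]
        exact hjp
      · simp only [Equiv.symm_apply_apply, inv_smul_smul]
        exact L.e.apply_symm_apply j

/-- An isomorphism onto the model, given a distant point with the standard neighbours. -/
theorem exists_iso (hΩ : Fintype.card Ω = 1782) (d : GraphData G a b c R) (L : NearLabel G a R)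
    (hL : ∀ i, R c (L.e.symm i : Ω) ↔ Mu 0 i) :
    ∃ φ : Ω ≃ Fin 1782, ∀ x y, R x y ↔ Adj (φ x) (φ y) := by
  obtain ⟨hadj, hμ⟩ := L.adjacency d
  let A := MulAction.stabilizer G a
  have hfarK : ∀ k : A, ∀ i, Mu 0 i ↔ R (k • c) (L.e.symm (loc (L.θ k) i) : Ω) := by
    intro k i
    rw [← hL i, L.symm_smul d]
    exact (d.inv (k : G) c _).symm
  have hwd : ∀ k k' : A, k • c = k' • c → act (L.θ k) (far 0) = act (L.θ k') (far 0) := by
    intro k k' e
    obtain ⟨v, hv⟩ := act_far (L.θ k) 0
    obtain ⟨w, hw⟩ := act_far (L.θ k') 0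
    rw [← hv, ← hw]
    congr 1
    refine mu_injective fun i => ?_
    obtain ⟨j, rfl⟩ := (loc (L.θ k)).surjective i
    rw [mu_loc _ hv, hfarK k]
    obtain ⟨j', hj'⟩ := (loc (L.θ k')).surjective (loc (L.θ k) j)
    rw [← hj', mu_loc _ hw, hfarK k', e]
  have hfar' : ∀ x : {y // y ≠ a ∧ ¬ R a y}, ∃ k : A, k • c = (x : Ω) := fun x => d.cover _ x.2.1 x.2.2
  choose kk hkk using hfar'
  let φ : Ω → Fin 1782 := fun x =>
    if h0 : x = a then p0 else if h : R a x then nb (L.e ⟨x, h⟩) else act (L.θ (kk ⟨x, h0, h⟩)) (far 0)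
  have φa : φ a = p0 := dif_pos rfl
  have φnb : ∀ x (h : R a x), φ x = nb (L.e ⟨x, h⟩) := fun x h => by
    have h0 : x ≠ a := fun e => d.irrefl a (e ▸ h)
    simp only [φ, dif_neg h0, dif_pos h]
  have hkc : ∀ k : A, k • c ≠ a ∧ ¬ R a (k • c) := fun k => ⟨(d.move k).ac.symm, (d.move k).nac⟩
  have φfar : ∀ k : A, φ (k • c) = act (L.θ k) (far 0) := fun k => by
    simp only [φ, dif_neg (hkc k).1, dif_neg (hkc k).2]
    exact hwd _ _ (hkk _)
  have hsurj : Function.Surjective φ := by
    intro z
    by_cases h0 : z = p0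
    · exact ⟨a, φa.trans h0.symm⟩
    by_cases h : Adj p0 z
    · obtain ⟨i, rfl⟩ := exists_nb h
      exact ⟨L.e.symm i, by rw [φnb _ (L.e.symm i).2, Equiv.apply_symm_apply]⟩
    · obtain ⟨v, rfl⟩ := exists_far h0 h
      obtain ⟨u, hu⟩ := trans_far v
      obtain ⟨k, rfl⟩ := L.θ.surjective u
      exact ⟨k • c, (φfar k).trans hu⟩
  have hbij : Function.Bijective φ := (Fintype.bijective_iff_surjective_and_card φ).2
    ⟨hsurj, by rw [hΩ, Fintype.card_fin]⟩
  let e : Ω ≃ Fin 1782 := Equiv.ofBijective φ hbij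
  have hequiv : ∀ (k : A) (x : Ω), φ (k • x) = act (L.θ k) (φ x) := by
    intro k x
    by_cases h0 : x = a
    · rw [h0, show k • a = a from k.2, φa, act_p0]
    by_cases h : R a x
    · rw [φnb _ (d.smul_near k h), φnb _ h, L.equiv k ⟨x, h⟩, nb_loc]
    · obtain ⟨l, rfl⟩ : ∃ l : A, l • c = x := ⟨kk ⟨x, h0, h⟩, hkk _⟩
      rw [← mul_smul, φfar, φfar, map_mul, map_mul, Equiv.Perm.mul_apply]
  have φc : φ c = far 0 := by
    have := φfar 1
    rwa [one_smul, map_one, map_one, Equiv.Perm.one_apply] at this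
  have hsymmA : ∀ x y, Adj x y ↔ Adj y x := fun x y => ⟨adj_symm, adj_symm⟩
  have hbase : ∀ y, R a y ↔ Adj (φ a) (φ y) := by
    intro y
    rw [φa]
    by_cases h0 : y = a
    · rw [h0, φa]; exact iff_of_false (d.irrefl a) (adj_irrefl p0)
    by_cases h : R a y
    · rw [φnb y h]; exact iff_of_true h (adj_nb _)
    · obtain ⟨l, rfl⟩ : ∃ l : A, l • c = y := ⟨kk ⟨y, h0, h⟩, hkk _⟩
      refine iff_of_false h ?_
      rw [φfar]
      obtain ⟨w, hw⟩ := act_far (L.θ l) 0
      rw [← hw]; exact not_adj_far w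
  have hmid : ∀ y, R a y → (R c y ↔ Adj (φ c) (φ y)) := by
    intro y h
    have := hL (L.e ⟨y, h⟩)
    rw [Equiv.symm_apply_apply] at this
    rw [this, φc, φnb y h, mu_iff]
  have hfc : ∀ y, y ≠ a → ¬ R a y → (R c y ↔ Adj (φ c) (φ y)) := by
    let W : Fin 1365 → Prop := fun v => R c (e.symm (far v))
    have hW0 : ¬ W 0 := by
      intro h
      have : e.symm (far 0) = c := by rw [Equiv.symm_apply_eq]; exact φc.symm
      exact d.irrefl c (by rwa [show W 0 = R c (e.symm (far 0)) from rfl, this] at h)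
    have hWinv : ∀ g ∈ farStab, ∀ v w, act g (far v) = far w → (W v ↔ W w) := by
      intro g hg v w hvw
      obtain ⟨k, rfl⟩ := L.θ.surjective g
      have hkc' : k • c = c := hbij.injective (by rw [hequiv, φc]; exact mem_farStab.1 hg)
      have he : k • e.symm (far v) = e.symm (far w) := by
        refine hbij.injective ?_
        rw [hequiv]
        show act (L.θ k) (e (e.symm (far v))) = e (e.symm (far w))
        rw [Equiv.apply_symm_apply, Equiv.apply_symm_apply, hvw]
      show R c (e.symm (far v)) ↔ R c (e.symm (far w))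
      rw [← he]
      have hinv := d.inv (k : G) c (e.symm (far v))
      rw [show (k : G) • c = c from hkc'] at hinv
      exact hinv.symm
    have hWcard : (Finset.univ.filter W).card = 320 := by
      have hsplit := Finset.card_filter_add_card_filter_not (s := Finset.univ.filter (R c)) (fun z => R a z)
      rw [Finset.filter_filter, Finset.filter_filter, d.degree c,
        show (Finset.univ.filter fun z => R c z ∧ R a z) = Finset.univ.filter fun z => R a z ∧ R c z from
          Finset.filter_congr fun z _ => and_comm, hμ] at hsplit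
      have h2 : (Finset.univ.filter W).card = (Finset.univ.filter fun z => R c z ∧ ¬ R a z).card := by
        refine Finset.card_bij (fun v _ => e.symm (far v)) (fun v hv => ?_) (fun v _ w _ he => ?_) (fun z hz => ?_)
        · simp only [Finset.mem_filter, Finset.mem_univ, true_and] at hv ⊢
          refine ⟨hv, fun h => ?_⟩
          rw [hbase, φa] at h
          rw [show φ (e.symm (far v)) = far v from e.apply_symm_apply _] at h
          exact not_adj_far v h
        · exact far_injective (e.symm.injective he)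
        · simp only [Finset.mem_filter, Finset.mem_univ, true_and] at hz
          have hza : z ≠ a := fun he => d.nac (d.symm (he ▸ hz.1))
          obtain ⟨v, hv⟩ := exists_far (x := φ z) (fun he => hza (hbij.injective (he.trans φa.symm)))
            (fun he => hz.2 ((hbase z).2 (by rw [φa]; exact he)))
          have hvz : e.symm (far v) = z := by rw [Equiv.symm_apply_eq]; exact hv
          exact ⟨v, by simp only [Finset.mem_filter, Finset.mem_univ, true_and, W, hvz]; exact hz.1, hvz⟩
      omega
    have hnear := far_class W hW0 hWinv hWcard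
    intro y h0 h
    obtain ⟨v, hv⟩ := exists_far (x := φ y) (fun he => h0 (hbij.injective (he.trans φa.symm)))
      (fun he => h ((hbase y).2 (by rw [φa]; exact he)))
    have hvy : e.symm (far v) = y := by rw [Equiv.symm_apply_eq]; exact hv
    rw [φc, ← hv, ← hnear]
    show R c y ↔ R c (e.symm (far v))
    rw [hvy]
  refine ⟨e, fun x y => ?_⟩
  show R x y ↔ Adj (φ x) (φ y)
  by_cases hx0 : x = a
  · rw [hx0]; exact hbase y
  by_cases hx : R a x
  · by_cases hy0 : y = a
    · rw [hy0, hsymmA]; exact ⟨fun h => (hbase x).1 (d.symm h), fun h => d.symm ((hbase x).2 h)⟩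
    by_cases hy : R a y
    · rw [φnb x hx, φnb y hy, ← alj_iff]; exact hadj ⟨x, hx⟩ ⟨y, hy⟩
    · obtain ⟨l, rfl⟩ : ∃ l : A, l • c = y := ⟨kk ⟨y, hy0, hy⟩, hkk _⟩
      obtain ⟨x', rfl⟩ : ∃ x', l • x' = x := ⟨_, smul_inv_smul l x⟩
      have hx' : R a x' := by
        have := d.smul_near l⁻¹ hx
        rwa [inv_smul_smul] at this
      rw [show R (l • x') (l • c) ↔ R x' c from d.inv (l : G) _ _, hequiv, hequiv, act_adj, hsymmA]
      exact ⟨fun h => (hmid x' hx').1 (d.symm h), fun h => d.symm ((hmid x' hx').2 h)⟩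
  · obtain ⟨l, rfl⟩ : ∃ l : A, l • c = x := ⟨kk ⟨x, hx0, hx⟩, hkk _⟩
    obtain ⟨y', rfl⟩ : ∃ y', l • y' = y := ⟨_, smul_inv_smul l y⟩
    rw [show R (l • c) (l • y') ↔ R c y' from d.inv (l : G) _ _, hequiv, hequiv, act_adj]
    by_cases hy0 : y' = a
    · rw [hy0, hsymmA]; exact ⟨fun h => (hbase c).1 (d.symm h), fun h => d.symm ((hbase c).2 h)⟩
    by_cases hy : R a y'
    · exact hmid y' hy
    · exact hfc y' hy0 hy

/-- Recognition of the sporadic Suzuki group in its action of degree 1782. -/
theorem recognize (hΩ : Fintype.card Ω = 1782) (G : Subgroup (Equiv.Perm Ω))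
    [MulAction.IsPretransitive G Ω] (a : Ω) (F : Type) [Field F] [Fintype F] (hF : Fintype.card F = 4)
    (e : MulAction.stabilizer G a ≃* Cfsg.Lie.chevG2.group F) (b c : Ω)
    (hb : (MulAction.orbit (MulAction.stabilizer G a) b).ncard = 416)
    (hc : (MulAction.orbit (MulAction.stabilizer G a) c).ncard = 1365) : Cfsg.Spor.IsoSuz G := by
  let e₀ : FieldFour ≃+* F := FiniteField.ringEquivOfCardEq (FieldFour.card_eq.trans hF.symm)
  let E : K ≃* Cfsg.Lie.chevG2.group F :=
    SuzG.equivG2.trans (Chevalley.G2Two.groupEquiv e₀ Cfsg.Lie.chevG2)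
  have d := graphData hΩ G a b c hb hc
  obtain ⟨L⟩ := exists_nearLabel d (e.trans E.symm) hb
  obtain ⟨k, hk⟩ := exists_standard d hc L
  obtain ⟨φ, hφ⟩ := exists_iso hΩ (d.move k) L hk
  let ι : G →* P := φ.permCongrHom.toMonoidHom.comp G.subtype
  have hι : Function.Injective ι := φ.permCongrHom.injective.comp Subtype.val_injective
  have hιφ : ∀ (g : G) (x : Ω), ι g (φ x) = φ (g • x) := fun g x => by
    show φ ((g : Equiv.Perm Ω) (φ.symm (φ x))) = φ (g • x)
    rw [φ.symm_apply_apply]; rfl
  have hle : ι.range ≤ Suz.Stab := by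
    rintro _ ⟨g, rfl⟩
    refine IsGraphAut.mem fun x y => ?_
    obtain ⟨x, rfl⟩ := φ.surjective x
    obtain ⟨y, rfl⟩ := φ.surjective y
    rw [hιφ, hιφ, ← hφ, ← hφ]
    exact d.inv g x y
  have hGcard : Nat.card ι.range = 448345497600 := by
    rw [← Nat.card_congr (MonoidHom.ofInjective hι).toEquiv,
      ← (MulAction.stabilizer G a).card_mul_index, MulAction.index_stabilizer_of_transitive,
      Nat.card_congr L.θ.toEquiv, card_K, Nat.card_eq_fintype_card, hΩ]
  have hfinal := eq_H ι.range hle hGcard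
  obtain ⟨j⟩ := Suz.H_spec.1
  exact ⟨((MonoidHom.ofInjective hι).trans (MulEquiv.subgroupCongr hfinal)).trans j.symm⟩

end CfsgLib.Sporadic.SuzRank
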