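import Cfsg.Agent.Lib.Sporadic.SuzRank.Conj
import Cfsg.Agent.Lib.Sporadic.SuzRank.CheckWords

/-!
A subgroup of index 416 of the point stabiliser fixes one of the 416 neighbours.
-/

set_option autoImplicit false
set_option maxRecDepth 100000

namespace CfsgLib.Sporadic.SuzRank

open CfsgLib.Sporadic.OutCert
open scoped Pointwise

attribute [local instance] conjAct
attribute [local irreducible] lk pkF allF compK oneK genL steps nkL repL pairC goodW pairW normW

theorem el_P : ∀ z ∈ [pa, pai, pb, pbi], el z ∈ PSub ∧ z < numEl := by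
  have ha : ea ∈ PSub := Subgroup.subset_closure (by simp)
  have hb : eb ∈ PSub := Subgroup.subset_closure (by simp)
  intro z hz
  simp only [List.mem_cons, List.not_mem_nil, or_false] at hz
  rcases hz with rfl | rfl | rfl | rfl
  · exact ⟨ha, pa_lt.1⟩
  · exact ⟨el_pai ▸ inv_mem ha, pa_lt.2.2.1⟩
  · exact ⟨hb, pa_lt.2.1⟩
  · exact ⟨el_pbi ▸ inv_mem hb, pa_lt.2.2.2⟩

theorem base_gens {S : Subgroup K} (hP : PSub ≤ S) :
    ∀ g ∈ [[pa], [pai], [pb], [pbi]], prodE g ∈ S ∧ ∀ i ∈ g, i < numEl := by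
  intro g hg
  obtain ⟨z, hz, rfl⟩ : ∃ z ∈ [pa, pai, pb, pbi], g = [z] := by
    simp only [List.mem_cons, List.not_mem_nil, or_false] at hg
    rcases hg with rfl | rfl | rfl | rfl <;> exact ⟨_, by simp, rfl⟩
  refine ⟨?_, fun i hi => (List.mem_singleton.1 hi) ▸ (el_P z hz).2⟩
  simpa [prodE] using hP (el_P z hz).1

theorem conj_gens {S : Subgroup K} {x : List ℕ × List ℕ} {y : K} (h1 : prodE x.1 = y) (h2 : prodE x.2 = y⁻¹)
    (hlt : ∀ i ∈ x.1 ++ x.2, i < numEl) (hS : y • PSub ≤ S) :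
    ∀ g ∈ conjGens x, prodE g ∈ S ∧ ∀ i ∈ g, i < numEl := by
  intro g hg
  obtain ⟨z, hz, rfl⟩ := List.mem_map.1 hg
  refine ⟨hS ?_, fun i hi => ?_⟩
  · rw [mem_smul_sub, prodE_append, prodE_cons, h1, h2]
    simpa [mul_assoc] using (el_P z hz).1
  · simp only [List.mem_append, List.mem_cons] at hi
    rcases hi with hi | rfl | hi
    exacts [hlt i (List.mem_append_left _ hi), (el_P _ hz).2, hlt i (List.mem_append_right _ hi)]

theorem words_mem {gs : List (List ℕ)} {ws : List (List ℕ)} (h : wordsK gs ws = true) {S : Subgroup K}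
    (hgs : ∀ g ∈ gs, prodE g ∈ S ∧ ∀ i ∈ g, i < numEl) : ∀ x < 5, el x ∈ S := by
  intro x hx
  have h' := List.all_eq_true.1 h x (List.mem_range.2 hx)
  simp only [Bool.and_eq_true, List.all_eq_true, Nat.blt_eq, beq_iff_eq] at h'
  obtain ⟨hk, he⟩ := h'
  have hl : ∀ i ∈ flat gs (ws.getD x []), i < numEl := by
    intro i hi
    obtain ⟨k, hk', hi⟩ := List.mem_flatMap.1 hi
    rw [List.getD_eq_getElem _ _ (hk k hk')] at hi
    exact (hgs _ (List.getElem_mem _)).2 i hi
  have hr := rep_el (gen_lt (x := x) (by omega))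
  rw [← he] at hr
  rw [← loc_injective ((rep_prodK hl).inj hr)]
  exact prodE_flat gs (ws.getD x []) S (fun g hg => (hgs g hg).1) hk

theorem eq_J_good {M : Subgroup K} (hM : M ≤ J) (hP : PSub ≤ M) {r : ℕ} (hr : r < 18) (h0 : r ≠ 0)
    (he : r ≠ exc) (hQ : rE r • PSub ≤ M) : M = J := by
  have h := List.all_eq_true.1 good_ok.2 r (List.mem_range.2 hr)
  simp only [Bool.or_eq_true, Nat.beq_eq, List.any_eq_true] at h
  rcases h with (h | h) | ⟨e, he', rfl⟩
  · exact absurd h h0
  · exact absurd h he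
  refine eq_J_of_five hM (words_mem (List.all_eq_true.1 good_ok.1 e he') fun g hg => ?_)
  rcases List.mem_append.1 hg with hg | hg
  · exact base_gens hP g hg
  · exact conj_gens rfl (rE_facts hr).2.1 (rE_facts hr).2.2 hQ g hg

theorem exc_lt : exc < 18 := by decide

theorem eq_J_pair {M : Subgroup K} (hM : M ≤ J) (hP : PSub ≤ M) (hQ : rE exc • PSub ≤ M) {j : ℕ}
    (hj : j < 2016) (hr : (pairAt j).2 = exc) (hm : j ∉ mates) (hQ' : xE j • PSub ≤ M) : M = J := by
  have h := allF_iff.1 pair_ok.2.1 j hj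
  simp only [Bool.or_eq_true, Bool.not_eq_true', List.contains_iff_mem, List.any_eq_true, Nat.beq_eq] at h
  rcases h with (h | h) | ⟨e, he, rfl⟩
  · rw [hr] at h; simp at h
  · exact absurd h hm
  have hw := List.all_eq_true.1 pair_ok.1 e he
  rw [Bool.and_eq_true] at hw
  refine eq_J_of_five hM (words_mem hw.2 fun g hg => ?_)
  rcases List.mem_append.1 hg with hg | hg
  · rcases List.mem_append.1 hg with hg | hg
    · exact base_gens hP g hg
    · exact conj_gens rfl (rE_facts exc_lt).2.1 (rE_facts exc_lt).2.2 hQ g hg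
  · obtain ⟨h1, h2, h3⟩ := prodE_xEl hj
    exact conj_gens h1 h2 h3 hQ' g hg

theorem eq_J_norm {M : Subgroup K} (hM : M ≤ J) (hN : J ⊓ N ≤ M) (hQ : rE exc • PSub ≤ M) : M = J := by
  refine eq_J_of_five hM (words_mem norm_words_ok fun g hg => ?_)
  rcases List.mem_append.1 hg with hg | hg
  · rcases List.mem_append.1 hg with hg | hg
    · exact base_gens ((le_inf PSub_le PSub_le_N).trans hN) g hg
    · exact conj_gens rfl (rE_facts exc_lt).2.1 (rE_facts exc_lt).2.2 hQ g hg
  · obtain ⟨e, he, rfl⟩ := List.mem_map.1 hg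
    have he' := List.mem_of_mem_tail he
    obtain ⟨k, hk, rfl⟩ := List.getElem_of_mem he'
    have h := nk_facts (k := k) (by rw [← names_ok.2.1]; exact hk)
    rw [List.getD_eq_getElem _ _ hk] at h
    refine ⟨hN (Subgroup.mem_inf.2 ⟨h.2.1, h.1⟩), fun i hi => ?_⟩
    simpa using List.all_eq_true.1 (List.all_eq_true.1 names_ok.2.2.1 _ he') i (List.mem_append_left _ hi)

theorem smul_inf_le {n : K} (hn : n ∈ J ⊓ N) {M : Subgroup K} (hM : M ≤ J) (hP : PSub ≤ M) :
    n⁻¹ • M ≤ J ∧ PSub ≤ n⁻¹ • M ∧ Nat.card ↥(n⁻¹ • M) = Nat.card M := by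
  obtain ⟨hnJ, hnN⟩ := Subgroup.mem_inf.1 hn
  refine ⟨fun y hy => ?_, fun y hy => ?_, (Nat.card_congr (Subgroup.equivSMul (MulAut.conj n⁻¹) M).toEquiv).symm⟩
  · rw [mem_smul_sub, inv_inv] at hy
    have h := mul_mem (mul_mem (inv_mem hnJ) (hM hy)) hnJ
    simpa [mul_assoc] using h
  · rw [mem_smul_sub, inv_inv]
    refine hP ?_
    have e : n • PSub = PSub := hnN
    rw [← e, mem_smul_sub]
    simpa [mul_assoc] using hy

theorem le_smul_inv {n : K} {Q M : Subgroup K} (h : n • Q ≤ M) : Q ≤ n⁻¹ • M := fun y hy => by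
  rw [mem_smul_sub, inv_inv]
  refine h ?_
  rw [mem_smul_sub]
  simpa [mul_assoc] using hy

theorem eq_J {M : Subgroup K} (hM : M ≤ J) (hP : PSub ≤ M) (hcard : 1454 ≤ Nat.card M) : M = J := by
  classical
  have hmem : ∀ {M : Subgroup K}, M ≤ J → PSub ≤ M → ∀ Q ∈ MulAction.orbit M PSub,
      ∃ j < 2016, xE j • PSub = Q ∧ xE j • PSub ≤ M := by
    rintro M hM hP _ ⟨⟨x, hx⟩, rfl⟩
    obtain ⟨j, hj, e⟩ := JN_facts.2 x (hM hx)
    refine ⟨j, hj, e.symm, ?_⟩
    rw [← e]
    intro y hy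
    rw [mem_smul_sub] at hy
    have := mul_mem (mul_mem hx (hP hy)) (inv_mem hx)
    simpa [mul_assoc] using this
  have hback : ∀ {n : K}, n ∈ J ⊓ N → n⁻¹ • M = J → M = J := fun {n} hn e => by
    refine Subgroup.eq_of_le_of_card_ge hM ?_
    rw [← (smul_inf_le hn hM hP).2.2, e]
  have hgood : ∀ {M : Subgroup K}, M ≤ J → PSub ≤ M → ∀ j < 2016, xE j • PSub ≤ M →
      (pairAt j).2 = 0 ∨ (pairAt j).2 = exc ∨ M = J := by
    intro M hM hP j hj hQ
    by_cases h0 : (pairAt j).2 = 0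
    · exact Or.inl h0
    by_cases he : (pairAt j).2 = exc
    · exact Or.inr (Or.inl he)
    refine Or.inr (Or.inr ?_)
    have hn := (nE_facts (pair_lt hj).1).1
    obtain ⟨h1, h2, h3⟩ := smul_inf_le hn hM hP
    have hr : rE (pairAt j).2 • PSub ≤ (nE (pairAt j).1)⁻¹ • M := le_smul_inv (by rw [← mul_smul]; exact hQ)
    refine Subgroup.eq_of_le_of_card_ge hM ?_
    rw [← h3, eq_J_good h1 h2 (pair_lt hj).2 h0 he hr]
  let A0 := ((List.range 2016).filter fun j => Nat.beq (pairAt j).2 0).toFinset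
  have hA0 : A0.card ≤ 1 := by
    refine (List.toFinset_card_le _).trans (le_of_eq ?_)
    rw [← List.countP_eq_length_filter]
    exact pair_ok.2.2.2
  have hcount : ∀ {M : Subgroup K}, ∀ (A : Finset ℕ), (∀ Q ∈ MulAction.orbit M PSub, ∃ j ∈ A, xE j • PSub = Q) →
      (MulAction.orbit M PSub).ncard ≤ A.card := by
    intro M A h
    refine le_trans (Set.ncard_le_ncard (t := ↑(A.image fun j => xE j • PSub)) (fun Q hQ => ?_) (Set.toFinite _)) ?_
    · obtain ⟨j, hj, rfl⟩ := h Q hQ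
      exact Finset.mem_coe.2 (Finset.mem_image_of_mem _ hj)
    · rw [Set.ncard_coe_finset]
      exact Finset.card_image_le
  by_contra hne
  have hNle : ∀ M : Subgroup K, M ≤ J → M ⊓ N ≤ J ⊓ N := fun M h => inf_le_inf_right _ h
  by_cases hexc : ∃ Q ∈ MulAction.orbit M PSub, ∃ j < 2016, xE j • PSub = Q ∧ xE j • PSub ≤ M ∧
      (pairAt j).2 = exc
  · obtain ⟨_, -, j, hj, -, hQ, hr⟩ := hexc
    have hn := (nE_facts (pair_lt hj).1).1
    obtain ⟨h1, h2, h3⟩ := smul_inf_le hn hM hP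
    have hne' : (nE (pairAt j).1)⁻¹ • M ≠ J := fun e => hne (hback hn e)
    have hQe : rE exc • PSub ≤ (nE (pairAt j).1)⁻¹ • M := le_smul_inv (by rw [← mul_smul, ← hr]; exact hQ)
    have ho := hcount (M := (nE (pairAt j).1)⁻¹ • M) (A0 ∪ mates.toFinset) (fun Q hQm => by
      obtain ⟨i, hi, e, hle⟩ := hmem h1 h2 Q hQm
      refine ⟨i, ?_, e⟩
      rcases hgood h1 h2 i hi hle with h | h | h
      · refine Finset.mem_union_left _ (List.mem_toFinset.2 (List.mem_filter.2 ⟨List.mem_range.2 hi, ?_⟩))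
        rw [h]; rfl
      · by_cases hmate : i ∈ mates
        · exact Finset.mem_union_right _ (List.mem_toFinset.2 hmate)
        · exact absurd (eq_J_pair h1 h2 hQe hi h hmate hle) hne'
      · exact absurd h hne')
    have h6 : (A0 ∪ mates.toFinset).card ≤ 6 := by
      refine (Finset.card_union_le _ _).trans ?_
      have := List.toFinset_card_le mates
      rw [pair_ok.2.2.1] at this
      omega
    have hmul := card_orbit_mul ((nE (pairAt j).1)⁻¹ • M)
    rw [h3] at hmul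
    have hd := Subgroup.card_dvd_of_le (hNle _ h1)
    rw [JN_facts.1] at hd
    obtain ⟨k, hk⟩ := hd
    rcases Nat.lt_or_ge k 2 with hk2 | hk2
    · have h300 : 300 ≤ Nat.card ↥((nE (pairAt j).1)⁻¹ • M ⊓ N) := by
        interval_cases k <;> omega
      have heq := Subgroup.eq_of_le_of_card_ge (hNle _ h1) (JN_facts.1.le.trans h300)
      exact hne' (eq_J_norm h1 (heq ▸ inf_le_left) hQe)
    · have h150 : Nat.card ↥((nE (pairAt j).1)⁻¹ • M ⊓ N) ≤ 150 := by nlinarith
      have := Nat.mul_le_mul (ho.trans h6) h150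
      omega
  · push Not at hexc
    have ho := hcount (M := M) A0 (fun Q hQm => by
      obtain ⟨i, hi, e, hle⟩ := hmem hM hP Q hQm
      refine ⟨i, ?_, e⟩
      rcases hgood hM hP i hi hle with h | h | h
      · refine List.mem_toFinset.2 (List.mem_filter.2 ⟨List.mem_range.2 hi, ?_⟩)
        rw [h]; rfl
      · exact absurd h (hexc Q hQm i hi e hle)
      · exact absurd h hne)
    have hmul := card_orbit_mul M
    have hd := Nat.le_of_dvd (by norm_num) (JN_facts.1 ▸ Subgroup.card_dvd_of_le (hNle _ hM))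
    have := Nat.mul_le_mul (ho.trans hA0) hd
    omega

/-- A subgroup of index 416 is the stabiliser of a point. -/
theorem eq_stabilizer (H : Subgroup K) (hH : Nat.card H = 604800) :
    ∃ p : Fin 416, ∀ k : K, k ∈ H ↔ loc k p = p := by
  classical
  have h5 : Fact (Nat.Prime 5) := ⟨by norm_num⟩
  obtain ⟨P0, hP0⟩ := Sylow.exists_subgroup_card_pow_prime 5 (n := 2) (G := H) (by rw [hH]; norm_num)
  let P' : Subgroup K := P0.map H.subtype
  have hP' : Nat.card P' = 25 := by
    rw [Nat.card_congr (P0.equivMapOfInjective _ H.subtype_injective).symm.toEquiv, hP0]; norm_num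
  have hfact : (Nat.card K).factorization 5 = 2 := by
    rw [card_K]
    refine le_antisymm ?_ ((Nat.Prime.pow_dvd_iff_le_factorization (by norm_num) (by norm_num)).1 (by norm_num))
    by_contra hgt
    have := (Nat.Prime.pow_dvd_iff_le_factorization (p := 5) (k := 3) (by norm_num)
      (by norm_num : (251596800 : ℕ) ≠ 0)).2 (by omega)
    norm_num at this
  let S1 : Sylow 5 K := Sylow.ofCard P' (by rw [hfact, hP']; norm_num)
  obtain ⟨S2, hS2⟩ := IsPGroup.exists_le_sylow PSub_five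
  obtain ⟨u, hu⟩ := MulAction.exists_smul_eq K S1 S2
  let H' : Subgroup K := u • H
  have hH' : Nat.card H' = 604800 := by
    rw [← hH]
    exact (Nat.card_congr (Subgroup.equivSMul (MulAut.conj u) H).toEquiv).symm
  have hP2 : PSub ≤ H' := by
    refine hS2.trans ?_
    rw [← hu, Sylow.coe_subgroup_smul]
    intro y hy
    rw [← smul_sub, mem_smul_sub] at hy
    rw [mem_smul_sub]
    exact Subgroup.map_subtype_le P0 hy
  letI : MulAction K (Fin 416) := MulAction.compHom _ loc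
  have hM : 1454 ≤ Nat.card ↥(H' ⊓ J) := by
    have h := (MulAction.stabilizer H' (0 : Fin 416)).card_mul_index
    rw [MulAction.index_stabilizer, hH'] at h
    have hle : (MulAction.orbit H' (0 : Fin 416)).ncard ≤ 416 :=
      le_of_le_of_eq (Set.ncard_le_ncard (Set.subset_univ _) (Set.toFinite _))
        (by rw [Set.ncard_univ, Nat.card_fin])
    have e : Nat.card (MulAction.stabilizer H' (0 : Fin 416)) = Nat.card ↥(H' ⊓ J) := Nat.card_congr
      { toFun := fun g => ⟨((g : H') : K), Subgroup.mem_inf.2 ⟨(g : H').2, g.2⟩⟩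
        invFun := fun g => ⟨⟨g, (Subgroup.mem_inf.1 g.2).1⟩, (Subgroup.mem_inf.1 g.2).2⟩
        left_inv := fun _ => rfl
        right_inv := fun _ => rfl }
    rw [e] at h
    have := Nat.mul_le_mul_left (Nat.card ↥(H' ⊓ J)) hle
    omega
  have hMJ := eq_J inf_le_right (le_inf hP2 PSub_le) hM
  have hJH : J ≤ H' := hMJ ▸ inf_le_left
  have heq : J = H' := Subgroup.eq_of_le_of_card_ge hJH (by rw [hH', card_J])
  refine ⟨loc u⁻¹ 0, fun k => ?_⟩
  have e : k ∈ H ↔ u * k * u⁻¹ ∈ H' := by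
    show _ ↔ u * k * u⁻¹ ∈ u • H
    rw [mem_smul_sub, show u⁻¹ * (u * k * u⁻¹) * u = k by group]
  rw [e, ← heq, mem_J, map_mul, map_mul, map_inv, Equiv.Perm.mul_apply, Equiv.Perm.mul_apply]
  exact ⟨fun h => (loc u).injective (h.trans (perm_apply_inv (loc u) 0).symm),
    fun h => by rw [h, perm_apply_inv]⟩

end CfsgLib.Sporadic.SuzRank
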