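import Cfsg.Agent.Lib.Sporadic.SuzRank.Model

/-!
The local graph on 416 points: transitivity, counts, and the stabiliser of a point.
-/

set_option autoImplicit false
set_option maxRecDepth 100000

namespace CfsgLib.Sporadic.SuzRank

open CfsgLib.Sporadic.OutCert
open scoped Classical

/-- The named elements lying in the group of the first five generators. -/
def fiveMask : ℕ :=
  (List.range steps.length).foldl (fun m k =>
    if Nat.testBit m (steps.getD k (0, false, 0, 0)).2.2.1 &&
        ((steps.getD k (0, false, 0, 0)).2.1 || Nat.testBit m (steps.getD k (0, false, 0, 0)).2.2.2)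
    then m ||| 2 ^ (6 + k) else m) 31

set_option maxHeartbeats 0 in
theorem five_ok : ((List.range steps.length).all fun k => !Nat.testBit fiveMask (6 + k) ||
      (Nat.testBit fiveMask (steps.getD k (0, false, 0, 0)).2.2.1 &&
        ((steps.getD k (0, false, 0, 0)).2.1 || Nat.testBit fiveMask (steps.getD k (0, false, 0, 0)).2.2.2))) = true ∧
    Nat.testBit fiveMask 5 = false ∧
    (jLevels.all fun L => L.2.1.all fun i => Nat.testBit fiveMask i) = true := by decide +kernel

set_option maxHeartbeats 0 in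
theorem away_ok : allF (fun i => Nat.beq i 0 || aljK 0 i ||
      Nat.testBit (treeMask awayTree.1 awayTree.2) i) 416 = true ∧
    (List.range 416).countP (fun i => !aljK 0 i && !Nat.beq i 0) = 315 := by decide +kernel

attribute [local irreducible] lk pkF allF compK oneK alAt genL steps fiveMask

theorem gen_lt {x : ℕ} (hx : x < 6) : x < numEl := by
  show x < genL.length + steps.length
  rw [gen_ok.1]; omega

theorem trans_all (i : Fin 416) : ∃ k : K, loc k 0 = i := by
  obtain ⟨h, hmask, -⟩ := locTrees_ok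
  obtain ⟨k, -, hk⟩ := orbit_of_tree (gens := fun g => g) (n := 6) (fun g hg => gen_lt hg) (b := (0 : Fin 416)) ⊤
    (fun _ _ => Subgroup.mem_top _) h (p := i) (by
      show (treeMask 0 locAll).testBit i = true
      rw [hmask, Nat.testBit_two_pow_sub_one]
      exact decide_eq_true i.2)
  exact ⟨k, hk⟩

/-- The action on the neighbours. -/
noncomputable local instance nbAct : MulAction K (Fin 416) := MulAction.compHom _ loc

/-- The stabiliser of the first neighbour. -/
noncomputable def J : Subgroup K := (MulAction.stabilizer L (0 : Fin 416)).comap loc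

theorem mem_J {k : K} : k ∈ J ↔ loc k 0 = 0 := Iff.rfl

theorem card_J : Nat.card J = 604800 := by
  haveI : MulAction.IsPretransitive K (Fin 416) := ⟨fun i j => by
    obtain ⟨u, hu⟩ := trans_all i
    obtain ⟨w, hw⟩ := trans_all j
    refine ⟨w * u⁻¹, ?_⟩
    show loc (w * u⁻¹) i = j
    rw [map_mul, map_inv, Equiv.Perm.mul_apply, Equiv.Perm.inv_eq_iff_eq.2 hu.symm, hw]⟩
  have h := (MulAction.stabilizer K (0 : Fin 416)).card_mul_index
  rw [MulAction.index_stabilizer_of_transitive, Nat.card_fin, card_K] at h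
  have e : MulAction.stabilizer K (0 : Fin 416) = J := Subgroup.ext fun k => Iff.rfl
  rw [e] at h
  omega

/-- The group of the first five generators. -/
noncomputable def Five : Subgroup K := Subgroup.closure (el '' Set.Iio 5)

theorem el_mem_five : ∀ i, i < numEl → fiveMask.testBit i = true → el i ∈ Five := by
  intro i
  induction i using Nat.strong_induction_on with
  | _ i ih =>
    intro hi hbit
    rcases Nat.lt_trichotomy i 5 with h | rfl | h
    · exact Subgroup.subset_closure ⟨i, h, rfl⟩
    · rw [five_ok.2.1] at hbit; simp at hbit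
    obtain ⟨k, rfl⟩ : ∃ k, i = 6 + k := ⟨i - 6, by omega⟩
    have hk : k < steps.length := by
      have : 6 + k < genL.length + steps.length := hi
      rw [gen_ok.1] at this; omega
    have hb := List.all_eq_true.1 five_ok.1 k (List.mem_range.2 hk)
    rw [hbit, Bool.not_true, Bool.false_or, Bool.and_eq_true, Bool.or_eq_true] at hb
    have hs := allF_iff.1 slp_ok k hk
    have hv : val (6 + k) = (steps.getD k (0, false, 0, 0)).1 := by
      rw [val, slpVal, if_neg (by rw [gen_ok.1]; omega), gen_ok.1, Nat.add_sub_cancel_left]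
    simp only [slpStepK, Bool.and_eq_true, Nat.blt_eq, gen_ok.1] at hs
    have hx : (steps.getD k (0, false, 0, 0)).2.2.1 < numEl := lt_trans hs.1 hi
    by_cases hinv : (steps.getD k (0, false, 0, 0)).2.1 = true
    · rw [if_pos hinv] at hs
      have hval : validK 9 416 (val (steps.getD k (0, false, 0, 0)).2.2.1) (steps.getD k (0, false, 0, 0)).1 = true :=
        hs.2
      have e : el (6 + k) = (el (steps.getD k (0, false, 0, 0)).2.2.1)⁻¹ := by
        refine loc_injective ((rep_el hi).inj ?_)
        rw [hv, map_inv, ← (rep_permOf hval).inj (rep_el hx)]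
        exact rep_permOf_inv hval
      rw [e]
      exact inv_mem (ih _ hs.1 hx hb.1)
    · rw [if_neg hinv] at hs
      simp only [Bool.and_eq_true, Nat.blt_eq, beq_iff_eq] at hs
      have hy : (steps.getD k (0, false, 0, 0)).2.2.2 < numEl := lt_trans hs.2.1 hi
      have e : el (6 + k) = el (steps.getD k (0, false, 0, 0)).2.2.1 * el (steps.getD k (0, false, 0, 0)).2.2.2 := by
        refine loc_injective ((rep_el hi).inj ?_)
        rw [hv, map_mul, ← hs.2.2]
        exact rep_comp hw9 (rep_el hx) (rep_el hy)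
      rw [e]
      exact mul_mem (ih _ hs.1 hx hb.1) (ih _ hs.2.1 hy (hb.2.resolve_left hinv))

theorem five_le : Five ≤ J := by
  refine (Subgroup.closure_le _).2 ?_
  rintro _ ⟨x, hx, rfl⟩
  have h := List.all_eq_true.1 levels_ok.2.2.2 x (List.mem_range.2 hx)
  have e := appL_eq (l := [x]) (fun i hi => (List.mem_singleton.1 hi) ▸ gen_lt (lt_trans hx (by norm_num)))
    (0 : Fin 416)
  rw [beq_iff_eq] at h
  have e' : ((loc (prodE [x]) 0 : Fin 416) : ℕ) = 0 := e.symm.trans h
  rw [SetLike.mem_coe, mem_J]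
  refine Fin.ext ?_
  rw [show el x = prodE [x] by simp [prodE]]
  exact e'.trans rfl

theorem five_eq : Five = J := by
  refine Subgroup.eq_of_le_of_card_ge five_le ?_
  rw [card_J, ← levels_ok.2.1]
  have h := card_ge_levels (jLevels.map fun L => (⟨L.1, L.2.1.map val, L.2.2⟩ : Level)) (Five.map loc)
    levels_ok.1 ?_
  · rw [List.map_map] at h
    rw [← Nat.card_congr (Five.equivMapOfInjective _ loc_injective).symm.toEquiv]
    exact h
  · intro L hL g hg
    obtain ⟨L0, hL0, rfl⟩ := List.mem_map.1 hL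
    obtain ⟨i, hi, rfl⟩ := List.mem_map.1 hg
    have hlt : i < numEl := by
      simpa using List.all_eq_true.1 (List.all_eq_true.1 names_ok.2.2.2.2.2.2.2.1 L0 hL0) i hi
    have hb := List.all_eq_true.1 (List.all_eq_true.1 five_ok.2.2 L0 hL0) i hi
    exact ⟨_, Subgroup.mem_map_of_mem _ (el_mem_five i hlt hb), rep_el hlt⟩

theorem eq_J_of_five {M : Subgroup K} (hM : M ≤ J) (h : ∀ x < 5, el x ∈ M) : M = J := by
  refine le_antisymm hM ?_
  rw [← five_eq]
  refine (Subgroup.closure_le _).2 ?_
  rintro _ ⟨x, hx, rfl⟩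
  exact h x hx

theorem trans_near {i : Fin 416} (h : Alj 0 i) : ∃ k ∈ J, (loc k ⟨nearTree.1, by
    simpa using locTrees_ok.2.2.2.2.1⟩ : Fin 416) = i := by
  obtain ⟨-, -, ht, -, hlt, -, hmask, -⟩ := locTrees_ok
  exact orbit_of_tree (gens := fun g => g) (n := 5) (fun g hg => gen_lt (by omega))
    (b := ⟨nearTree.1, by simpa using hlt⟩) J
    (fun g hg => five_le (Subgroup.subset_closure ⟨g, hg, rfl⟩)) ht (p := i) (by
      show (treeMask nearTree.1 nearTree.2).testBit i = true
      rw [hmask]; exact h)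

/-- A point at distance two from the first one. -/
noncomputable def away : Fin 416 := ⟨awayTree.1, by simpa using locTrees_ok.2.2.2.2.2.1⟩

theorem trans_away {i : Fin 416} (h : ¬ Alj 0 i) (hne : i ≠ 0) : ∃ k ∈ J, loc k away = i := by
  obtain ⟨-, -, -, ht, -⟩ := locTrees_ok
  refine orbit_of_tree (gens := fun g => g) (n := 5) (fun g hg => gen_lt (by omega)) (b := away) J
    (fun g hg => five_le (Subgroup.subset_closure ⟨g, hg, rfl⟩)) ht (p := i) ?_
  have h' := allF_iff.1 away_ok.1 i i.2
  rw [Bool.or_eq_true, Bool.or_eq_true, Nat.beq_eq] at h'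
  rcases h' with (e | e) | e
  · exact absurd (Fin.ext e) hne
  · exact absurd e h
  · exact e

theorem trans_edge {i j i' j' : Fin 416} (h : Alj i j) (h' : Alj i' j') :
    ∃ k : K, loc k i = i' ∧ loc k j = j' := by
  have hcan : ∀ {i j : Fin 416}, Alj i j → ∃ k : K, loc k 0 = i ∧
      loc k ⟨nearTree.1, by simpa using locTrees_ok.2.2.2.2.1⟩ = j := by
    intro i j h
    obtain ⟨u, rfl⟩ := trans_all i
    obtain ⟨j, rfl⟩ := (loc u).surjective j
    obtain ⟨w, hw, rfl⟩ := trans_near ((loc_alj u 0 j).1 h)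
    exact ⟨u * w, by rw [map_mul, Equiv.Perm.mul_apply, mem_J.1 hw],
      by rw [map_mul, Equiv.Perm.mul_apply]⟩
  obtain ⟨u, rfl, rfl⟩ := hcan h
  obtain ⟨w, rfl, rfl⟩ := hcan h'
  refine ⟨w * u⁻¹, ?_, ?_⟩ <;>
    rw [map_mul, map_inv, Equiv.Perm.mul_apply, perm_inv_apply]

theorem apart_base {i j : Fin 416} (h : ¬ Alj i j) (hne : i ≠ j) :
    ∃ k : K, loc k 0 = i ∧ loc k away = j := by
  obtain ⟨u, rfl⟩ := trans_all i
  obtain ⟨j, rfl⟩ := (loc u).surjective j
  obtain ⟨w, hw, rfl⟩ := trans_away (fun e => h ((loc_alj u 0 j).2 e)) (fun e => hne (congrArg _ e.symm))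
  exact ⟨u * w, by rw [map_mul, Equiv.Perm.mul_apply, mem_J.1 hw],
    by rw [map_mul, Equiv.Perm.mul_apply]⟩

theorem trans_apart {i j i' j' : Fin 416} (h : ¬ Alj i j) (hne : i ≠ j) (h' : ¬ Alj i' j') (hne' : i' ≠ j') :
    ∃ k : K, loc k i = i' ∧ loc k j = j' := by
  obtain ⟨u, rfl, rfl⟩ := apart_base h hne
  obtain ⟨w, rfl, rfl⟩ := apart_base h' hne'
  refine ⟨w * u⁻¹, ?_, ?_⟩ <;>
    rw [map_mul, map_inv, Equiv.Perm.mul_apply, perm_inv_apply]

theorem card_filter_range {N : ℕ} {p : Fin N → Prop} [DecidablePred p] {b : ℕ → Bool}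
    (h : ∀ i : Fin N, p i ↔ b i = true) :
    (Finset.univ.filter p).card = (List.range N).countP b := by
  classical
  rw [← List.map_coe_finRange_eq_range, List.countP_map, List.countP_eq_length_filter,
    ← List.toFinset_card_of_nodup ((List.nodup_finRange N).filter _)]
  congr 1
  ext i
  simp [h i]

theorem card_alj (p : Fin 416) [DecidablePred (Alj p)] : (Finset.univ.filter (Alj p)).card = 100 := by
  obtain ⟨u, rfl⟩ := trans_all p
  rw [← locTrees_ok.2.2.2.2.2.2.2.2.1, ← card_filter_range (p := fun i : Fin 416 => Alj 0 i)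
    (b := fun i => aljK 0 i) fun i => Iff.rfl]
  refine Finset.card_equiv (loc u)⁻¹ fun i => ?_
  simp only [Finset.mem_filter, Finset.mem_univ, true_and]
  rw [← loc_alj u 0, perm_apply_inv]

theorem card_away (p : Fin 416) [DecidablePred fun i => ¬ Alj p i ∧ i ≠ p] :
    (Finset.univ.filter fun i => ¬ Alj p i ∧ i ≠ p).card = 315 := by
  obtain ⟨u, rfl⟩ := trans_all p
  rw [← away_ok.2, ← card_filter_range (p := fun i : Fin 416 => ¬ Alj 0 i ∧ i ≠ 0)
    (b := fun i => !aljK 0 i && !Nat.beq i 0) fun i => by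
      rw [Bool.and_eq_true, Bool.not_eq_true', Bool.not_eq_true', Bool.eq_false_iff, Bool.eq_false_iff]
      exact and_congr Iff.rfl (not_congr (Fin.ext_iff.trans (Iff.intro
        (fun e => by rw [e]; rfl) Nat.eq_of_beq_eq_true)))]
  refine Finset.card_equiv (loc u)⁻¹ fun i => ?_
  simp only [Finset.mem_filter, Finset.mem_univ, true_and]
  rw [← loc_alj u 0, perm_apply_inv, Ne, Ne, Equiv.Perm.inv_eq_iff_eq]

theorem card_away_com {p q : Fin 416} (h : ¬ Alj p q) (hne : p ≠ q) [DecidablePred fun i => Alj p i ∧ Alj q i] :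
    (Finset.univ.filter fun i => Alj p i ∧ Alj q i).card = 20 := by
  obtain ⟨u, rfl, rfl⟩ := apart_base h hne
  rw [← locTrees_ok.2.2.2.2.2.2.2.2.2, ← card_filter_range (p := fun i : Fin 416 => Alj 0 i ∧ Alj away i)
    (b := fun i => aljK 0 i && aljK awayTree.1 i) fun i => by
      rw [Bool.and_eq_true]; exact Iff.rfl]
  refine Finset.card_equiv (loc u)⁻¹ fun i => ?_
  simp only [Finset.mem_filter, Finset.mem_univ, true_and]
  rw [← loc_alj u 0, ← loc_alj u away, perm_apply_inv]

end CfsgLib.Sporadic.SuzRank
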