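import Cfsg.Agent.Lib.Sporadic.G2FourModel
import Cfsg.Agent.Lib.Sporadic.OutCert.Suz.Group
import Cfsg.Agent.Lib.Sporadic.SuzRank.CheckGraph
import Cfsg.Agent.Lib.Sporadic.SuzRank.CheckGroup

/-!
The model: the Suzuki group on 1782 points, the stabiliser of a point and its action on the 416
neighbours of that point.
-/

set_option autoImplicit false
set_option maxRecDepth 10000

namespace CfsgLib.Sporadic.SuzRank

open CfsgLib.Sporadic.OutCert
open CfsgLib.Sporadic.CosetCert (SuzP.coding SuzP.pt SuzP.transitive SuzP.card_eq SuzG.grpA SuzG.genA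
  SuzG.mem_lA SuzG.card_grpA SuzData.table)

attribute [local irreducible] lk pkF allF compK oneK Suz.rowAt Suz.sTab Suz.kPi Suz.kPiI nbK farK posK farPosK
  alAt genL steps farTree sepQ

/-- Permutations of the 1782 points. -/
abbrev P : Type := Equiv.Perm (Fin 1782)

/-- Permutations of the 416 neighbours. -/
abbrev L : Type := Equiv.Perm (Fin 416)

/-- The stabiliser of a point in the Suzuki group. -/
abbrev K : Type := ↥SuzG.grpA

theorem perm_apply_inv {N : ℕ} (g : Equiv.Perm (Fin N)) (x : Fin N) : g (g⁻¹ x) = x := g.apply_symm_apply x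

theorem perm_inv_apply {N : ℕ} (g : Equiv.Perm (Fin N)) (x : Fin N) : g⁻¹ (g x) = x := g.symm_apply_apply x

/-- The base point. -/
noncomputable def p0 : Fin 1782 := ⟨base0, by simpa using base_ok.1⟩

/-- Adjacency. -/
def Adj (x y : Fin 1782) : Prop := Suz.adjK x y = true

/-- Adjacency among the neighbours. -/
def Alj (i j : Fin 416) : Prop := aljK i j = true

theorem adj_H {g : P} (hg : g ∈ Suz.H) (x y : Fin 1782) : Adj (g x) (g y) ↔ Adj x y := by
  show Suz.adjK (g x : ℕ) (g y : ℕ) = true ↔ Suz.adjK x y = true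
  rw [mem_pairStab.1 (Suz.H_le_stab hg) x y]

theorem pi_apply (u : Fin SuzData.table.N) :
    ((Suz.pPi (finCongr Suz.table_N u) : Fin 1782) : ℕ) = lk 11 Suz.kPi (u : ℕ) :=
  ((rep_permOf Suz.valid.1) (finCongr Suz.table_N u)).symm

theorem p0_eq : Suz.pPi (finCongr Suz.table_N SuzP.pt) = p0 := Fin.ext ((pi_apply _).trans base_ok.2.2)

theorem trans_H (x : Fin 1782) : ∃ g ∈ Suz.H, g p0 = x := by
  obtain ⟨u, rfl⟩ := ((finCongr Suz.table_N).trans Suz.pPi).surjective x
  obtain ⟨a, ha⟩ := SuzP.transitive u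
  refine ⟨Suz.psi a, Suz.H_eq_range ▸ ⟨a, rfl⟩, ?_⟩
  rw [← p0_eq, Suz.psi_apply, ha]
  rfl

theorem nb_facts (i : Fin 416) : nbAt i < 1782 ∧ Suz.adjK base0 (nbAt i) = true ∧
    Suz.adjK (nbAt i) base0 = true ∧ lk 9 posK (nbAt i) = i := by
  have h := allF_iff.1 nb_ok i i.2
  simpa [Bool.and_eq_true, Nat.blt_eq] using h

/-- The point of a neighbour index. -/
noncomputable def nb (i : Fin 416) : Fin 1782 := ⟨nbAt i, (nb_facts i).1⟩

theorem nb_injective : Function.Injective nb := fun i j e => Fin.ext (by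
  have e' : nbAt i = nbAt j := congrArg Fin.val e
  rw [← (nb_facts i).2.2.2, e', (nb_facts j).2.2.2])

theorem adj_nb (i : Fin 416) : Adj p0 (nb i) := (nb_facts i).2.1

theorem cover_facts (x : Fin 1782) : x = p0 ∨
    (Adj p0 x ∧ ∃ i, nb i = x) ∨ (¬ Adj p0 x ∧ lk 11 farPosK x < 1365 ∧ farAt (lk 11 farPosK x) = x) := by
  have h := allF_iff.1 cover_ok x x.2
  rw [Bool.or_eq_true] at h
  rcases h with h | h
  · exact Or.inl (Fin.ext (Nat.eq_of_beq_eq_true h))
  right
  by_cases hA : Suz.adjK base0 x = true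
  · rw [if_pos hA, Bool.and_eq_true, Nat.blt_eq, Nat.beq_eq] at h
    exact Or.inl ⟨hA, ⟨lk 9 posK x, h.1⟩, Fin.ext h.2⟩
  · rw [if_neg hA, Bool.and_eq_true, Nat.blt_eq, Nat.beq_eq] at h
    exact Or.inr ⟨hA, h⟩

theorem adj_irrefl (x : Fin 1782) : ¬ Adj x x := by
  obtain ⟨g, hg, rfl⟩ := trans_H x
  rw [adj_H hg]
  show ¬ Suz.adjK base0 base0 = true
  rw [base_ok.2.1]
  simp

theorem exists_nb {x : Fin 1782} (h : Adj p0 x) : ∃ i, nb i = x := by
  rcases cover_facts x with rfl | ⟨-, h'⟩ | ⟨h', -⟩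
  · exact absurd h (adj_irrefl _)
  · exact h'
  · exact absurd h h'

theorem adj_symm {x y : Fin 1782} (h : Adj x y) : Adj y x := by
  obtain ⟨g, hg, rfl⟩ := trans_H x
  obtain ⟨y, rfl⟩ := g.surjective y
  rw [adj_H hg] at h ⊢
  obtain ⟨i, rfl⟩ := exists_nb h
  exact (nb_facts i).2.2.1

theorem far_facts (v : Fin 1365) : farAt v < 1782 ∧ farAt v ≠ base0 ∧ Suz.adjK base0 (farAt v) = false ∧
    lk 11 farPosK (farAt v) = v := by
  have h := allF_iff.1 far_ok v v.2
  simp only [Bool.and_eq_true, Nat.blt_eq, Bool.not_eq_true', Nat.beq_eq] at h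
  exact ⟨h.1, fun e => by rw [e] at h; simp at h, h.2.2.1, h.2.2.2⟩

/-- The point of a distant index. -/
noncomputable def far (v : Fin 1365) : Fin 1782 := ⟨farAt v, (far_facts v).1⟩

theorem far_injective : Function.Injective far := fun v w e => Fin.ext (by
  have e' : farAt v = farAt w := congrArg Fin.val e
  rw [← (far_facts v).2.2.2, e', (far_facts w).2.2.2])

theorem far_ne (v : Fin 1365) : far v ≠ p0 := fun e => (far_facts v).2.1 (congrArg Fin.val e)

theorem not_adj_far (v : Fin 1365) : ¬ Adj p0 (far v) := by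
  show ¬ Suz.adjK base0 (farAt v) = true
  rw [(far_facts v).2.2.1]
  simp

theorem exists_far {x : Fin 1782} (h0 : x ≠ p0) (h : ¬ Adj p0 x) : ∃ v, far v = x := by
  rcases cover_facts x with e | ⟨h', -⟩ | ⟨-, h1, h2⟩
  · exact absurd e h0
  · exact absurd h' h
  · exact ⟨⟨_, h1⟩, Fin.ext h2⟩

theorem alj_iff (i j : Fin 416) : Alj i j ↔ Adj (nb i) (nb j) := by
  have h := beq_iff_eq.1 (allF_iff.1 (allF_iff.1 al_ok i i.2) j j.2)
  show aljK i j = true ↔ Suz.adjK (nbAt i) (nbAt j) = true
  rw [h]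

theorem alj_symm {i j : Fin 416} (h : Alj i j) : Alj j i := (alj_iff j i).2 (adj_symm ((alj_iff i j).1 h))

theorem alj_irrefl (i : Fin 416) : ¬ Alj i i := fun h => adj_irrefl _ ((alj_iff i i).1 h)

/-- A neighbour is adjacent to a distant point. -/
def Mu (v : Fin 1365) (i : Fin 416) : Prop := muJK v i = true

theorem mu_iff (v : Fin 1365) (i : Fin 416) : Mu v i ↔ Adj (far v) (nb i) := Iff.rfl

theorem key_injective {v w : Fin 1365} (h : ∀ q ∈ sepQ, muJK v q = muJK w q) : v = w := by
  have hk : farKey v = farKey w := by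
    rw [farKey, farKey]
    congr 1
    exact List.map_congr_left fun q hq => by rw [h q hq]
  have hv := List.all_eq_true.1 sep_ok.2 v (List.mem_range.2 v.2)
  have hw := List.all_eq_true.1 sep_ok.2 w (List.mem_range.2 w.2)
  rw [hk] at hv
  cases he : farTree.get (farKey w) with
  | none => simp [he] at hw
  | some e =>
    simp only [he, Nat.beq_eq] at hv hw
    exact Fin.ext (hv.symm.trans hw)

theorem mu_injective {v w : Fin 1365} (h : ∀ i, Mu v i ↔ Mu w i) : v = w :=
  key_injective fun q hq => by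
    have hlt : q < 416 := by simpa using List.all_eq_true.1 sep_ok.1 q hq
    exact Bool.eq_iff_iff.2 (h ⟨q, hlt⟩)

/-! ### The stabiliser of the base point -/

/-- The action of the stabiliser on the points. -/
noncomputable def act : K →* P := Suz.psi.comp SuzG.grpA.subtype

theorem act_mem (k : K) : act k ∈ Suz.H := Suz.H_eq_range ▸ ⟨(k : Cfsg.Spor.Suz), rfl⟩

theorem act_adj (k : K) (x y : Fin 1782) : Adj (act k x) (act k y) ↔ Adj x y := adj_H (act_mem k) x y

theorem rep_act {x : ℕ} (hx : x < 6) : Rep 11 1782 (Suz.sTab.getD x 0) (act (SuzG.genA x)) := by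
  have e : act (SuzG.genA x) = Suz.psi (SuzP.coding.gen x) := by
    show Suz.psi ((SuzG.genA x : K) : Cfsg.Spor.Suz) = _
    rw [SuzG.genA, dif_pos (SuzG.mem_lA x hx)]
  rw [e]
  exact Suz.rep_gen (by omega)

theorem link_facts {x : ℕ} (hx : x < 6) : lk 11 (Suz.sTab.getD x 0) base0 = base0 ∧
    ∀ i : Fin 416, lk 11 (Suz.sTab.getD x 0) (nbAt i) = nbAt (lk 9 (genL.getD x 0) i) := by
  have h := List.all_eq_true.1 link_ok x (List.mem_range.2 hx)
  simp only [Bool.and_eq_true, beq_iff_eq] at h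
  exact ⟨h.1, fun i => beq_iff_eq.1 (allF_iff.1 h.2 i i.2)⟩

theorem K_induction {Q : K → Prop} (h1 : Q 1) (hgen : ∀ x < 6, Q (SuzG.genA x))
    (hmul : ∀ a b, Q a → Q b → Q (a * b)) (hinv : ∀ a, Q a → Q a⁻¹) (k : K) : Q k := by
  obtain ⟨g, hg⟩ := k
  induction hg using Subgroup.closure_induction with
  | mem g hg =>
    obtain ⟨x, hx, rfl⟩ := hg
    have hx6 : x < 6 := (CfsgLib.Sporadic.CosetCert.SuzG.lA_lt x hx).2
    have := hgen x hx6
    simp only [SuzG.genA, dif_pos (SuzG.mem_lA x hx6)] at this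
    exact this
  | one => exact h1
  | mul a b _ _ ha hb => exact hmul _ _ ha hb
  | inv a _ ha => exact hinv _ ha

theorem act_p0 (k : K) : act k p0 = p0 := by
  induction k using K_induction with
  | h1 => rw [map_one]; rfl
  | hgen x hx => exact Fin.ext ((rep_act hx p0).symm.trans (link_facts hx).1)
  | hmul a b ha hb => rw [map_mul, Equiv.Perm.mul_apply, hb, ha]
  | hinv a ha => rw [map_inv, Equiv.Perm.inv_eq_iff_eq, ha]

theorem act_nb (k : K) (i : Fin 416) : Adj p0 (act k (nb i)) := by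
  have h := (act_adj k p0 (nb i)).2 (adj_nb i)
  rwa [act_p0] at h

/-- The action of the stabiliser on the neighbours, as a map. -/
noncomputable def locFun (k : K) (i : Fin 416) : Fin 416 := (exists_nb (act_nb k i)).choose

theorem nb_locFun (k : K) (i : Fin 416) : nb (locFun k i) = act k (nb i) :=
  (exists_nb (act_nb k i)).choose_spec

/-- The action of the stabiliser on the neighbours. -/
noncomputable def loc : K →* L where
  toFun k :=
    { toFun := locFun k
      invFun := locFun k⁻¹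
      left_inv := fun i => nb_injective (by
        rw [nb_locFun, nb_locFun, map_inv, perm_inv_apply])
      right_inv := fun i => nb_injective (by
        rw [nb_locFun, nb_locFun, map_inv, perm_apply_inv]) }
  map_one' := Equiv.ext fun i => nb_injective (by
    show nb (locFun 1 i) = nb i
    rw [nb_locFun, map_one, Equiv.Perm.one_apply])
  map_mul' u v := Equiv.ext fun i => nb_injective (by
    show nb (locFun (u * v) i) = nb (locFun u (locFun v i))
    rw [nb_locFun, nb_locFun, nb_locFun, map_mul, Equiv.Perm.mul_apply])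

theorem nb_loc (k : K) (i : Fin 416) : nb (loc k i) = act k (nb i) := nb_locFun k i

theorem loc_alj (k : K) (i j : Fin 416) : Alj (loc k i) (loc k j) ↔ Alj i j := by
  rw [alj_iff, alj_iff, nb_loc, nb_loc, act_adj]

theorem loc_gen {x : ℕ} (hx : x < 6) : Rep 9 416 (genL.getD x 0) (loc (SuzG.genA x)) := by
  intro i
  have hlt : lk 9 (genL.getD x 0) i < 416 := by
    rw [List.getD_eq_getElem _ _ (by rw [gen_ok.1]; exact hx)]
    have h := List.all_eq_true.1 gen_ok.2 _ (List.getElem_mem (by rw [gen_ok.1]; exact hx))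
    simpa using allF_iff.1 h i i.2
  have e : nb ⟨_, hlt⟩ = nb (loc (SuzG.genA x) i) := Fin.ext (by
    rw [nb_loc, ← rep_act hx (nb i)]
    exact ((link_facts hx).2 i).symm)
  exact congrArg Fin.val (nb_injective e)

theorem act_far (k : K) (v : Fin 1365) : ∃ w, far w = act k (far v) := by
  refine exists_far (fun e => far_ne v ((act k).injective (e.trans (act_p0 k).symm))) fun e => not_adj_far v ?_
  rw [← act_p0 k, act_adj] at e
  exact e

theorem mu_loc (k : K) {v w : Fin 1365} (h : far w = act k (far v)) (i : Fin 416) :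
    Mu w (loc k i) ↔ Mu v i := by
  rw [mu_iff, mu_iff, h, nb_loc, act_adj]

theorem loc_injective : Function.Injective loc := by
  refine (injective_iff_map_eq_one loc).2 fun k hk => ?_
  have hfix : act k = 1 := Equiv.ext fun x => by
    show act k x = x
    by_cases h0 : x = p0
    · rw [h0, act_p0]
    by_cases hA : Adj p0 x
    · obtain ⟨i, rfl⟩ := exists_nb hA
      rw [← nb_loc, hk]; rfl
    · obtain ⟨v, rfl⟩ := exists_far h0 hA
      obtain ⟨w, hw⟩ := act_far k v
      rw [← hw]
      congr 1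
      refine mu_injective fun i => ?_
      have := mu_loc k hw i
      rwa [hk] at this
  refine Subtype.ext (Suz.psi_injective ?_)
  show act k = act 1
  rw [map_one, hfix]

theorem card_K : Nat.card K = 251596800 := SuzG.card_grpA

instance : Finite K := Nat.finite_of_card_ne_zero (by rw [card_K]; norm_num)

/-! ### Named elements -/

theorem hw9 : 416 ≤ 2 ^ 9 := by norm_num

theorem exists_el (i : ℕ) (hi : i < numEl) : ∃ k : K, Rep 9 416 (val i) (loc k) := by
  have h := slp_sound hw9 slp_ok (S := loc.range) (fun j hj =>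
    ⟨_, ⟨_, rfl⟩, loc_gen (by rw [gen_ok.1] at hj; exact hj)⟩) i hi
  obtain ⟨g, ⟨k, rfl⟩, hg⟩ := h
  exact ⟨k, hg⟩

/-- A named element. -/
noncomputable def el (i : ℕ) : K := if h : i < numEl then (exists_el i h).choose else 1

theorem rep_el {i : ℕ} (hi : i < numEl) : Rep 9 416 (val i) (loc (el i)) := by
  rw [el, dif_pos hi]
  exact (exists_el i hi).choose_spec

theorem el_gen {x : ℕ} (hx : x < 6) : el x = SuzG.genA x := by
  refine loc_injective ((rep_el ?_).inj ?_)
  · show x < genL.length + steps.length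
    rw [gen_ok.1]; omega
  · rw [val, slpVal, if_pos (by rw [gen_ok.1]; exact hx)]
    exact loc_gen hx

/-- A product of named elements. -/
noncomputable def prodE (l : List ℕ) : K := (l.map el).prod

theorem prodE_append (l m : List ℕ) : prodE (l ++ m) = prodE l * prodE m := by simp [prodE]

theorem prodE_cons (i : ℕ) (m : List ℕ) : prodE (i :: m) = el i * prodE m := by simp [prodE]

theorem prodE_flat (gs : List (List ℕ)) (w : List ℕ) (S : Subgroup K) (h : ∀ g ∈ gs, prodE g ∈ S)
    (hw : ∀ k ∈ w, k < gs.length) : prodE (flat gs w) ∈ S := by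
  induction w with
  | nil => exact one_mem S
  | cons k w ih =>
    have e : flat gs (k :: w) = gs.getD k [] ++ flat gs w := rfl
    rw [e, prodE_append]
    refine mul_mem (h _ ?_) (ih fun j hj => hw j (List.mem_cons_of_mem _ hj))
    rw [List.getD_eq_getElem _ _ (hw k List.mem_cons_self)]
    exact List.getElem_mem _

theorem rep_prodK : ∀ {l : List ℕ}, (∀ i ∈ l, i < numEl) → Rep 9 416 (prodK l) (loc (prodE l))
  | [], _ => by
    show Rep 9 416 (oneK 9 416) (loc 1)
    rw [map_one]
    exact rep_one hw9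
  | i :: l, h => by
    show Rep 9 416 (compK 9 416 (val i) (prodK l)) (loc (prodE (i :: l)))
    rw [prodE_cons, map_mul]
    exact rep_comp hw9 (rep_el (h i List.mem_cons_self)) (rep_prodK fun j hj => h j (List.mem_cons_of_mem _ hj))

theorem prodE_eq {l m : List ℕ} (hl : ∀ i ∈ l, i < numEl) (hm : ∀ i ∈ m, i < numEl)
    (h : prodK l = prodK m) : prodE l = prodE m :=
  loc_injective ((rep_prodK hl).inj (h ▸ rep_prodK hm))

theorem prodE_one {l : List ℕ} (hl : ∀ i ∈ l, i < numEl) (h : prodK l = oneK 9 416) : prodE l = 1 :=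
  prodE_eq hl (m := []) (by simp) h

theorem appL_eq : ∀ {l : List ℕ}, (∀ i ∈ l, i < numEl) → ∀ u : Fin 416, appL l u = (loc (prodE l) u : ℕ)
  | [], _, u => by simp [appL, appK, prodE]
  | i :: l, h, u => by
    show lk 9 (val i) (appL l u) = _
    rw [appL_eq (fun j hj => h j (List.mem_cons_of_mem _ hj)) u, prodE_cons, map_mul, Equiv.Perm.mul_apply]
    exact rep_el (h i List.mem_cons_self) _

/-! ### Trees -/

theorem treeMask_testBit {Q : ℕ → Prop} {f : ℕ → ℕ → ℕ} {n : ℕ} (hstep : ∀ g < n, ∀ u, Q u → Q (f g u)) :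
    ∀ (l : List (ℕ × ℕ × ℕ)) (m : ℕ), treeK f n l m = true → (∀ p, m.testBit p = true → Q p) →
      ∀ p, (l.foldl (fun m e => m ||| 2 ^ e.1) m).testBit p = true → Q p
  | [], _, _, hm => hm
  | e :: l, m, h, hm => by
    simp only [treeK, Bool.and_eq_true, Nat.blt_eq, beq_iff_eq] at h
    obtain ⟨hg, hq, himg, hrest⟩ := h
    refine treeMask_testBit hstep l _ hrest fun p hp => ?_
    rw [Nat.testBit_lor, Bool.or_eq_true, Nat.testBit_two_pow, decide_eq_true_eq] at hp
    rcases hp with hp | rfl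
    · exact hm p hp
    · rw [← himg]
      exact hstep _ hg _ (hm _ hq)

theorem orbit_of_tree {gens : ℕ → ℕ} {n : ℕ} (hgens : ∀ g < n, gens g < numEl) {b : Fin 416}
    (S : Subgroup K) (hS : ∀ g < n, el (gens g) ∈ S) {l : List (ℕ × ℕ × ℕ)}
    (h : treeK (fun g u => lk 9 (val (gens g)) u) n l (2 ^ (b : ℕ)) = true) {p : Fin 416}
    (hp : (treeMask b l).testBit p = true) : ∃ k ∈ S, loc k b = p := by
  have := treeMask_testBit (Q := fun u => ∃ k ∈ S, (loc k b : ℕ) = u) (fun g hg u ⟨k, hk, hu⟩ => by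
    refine ⟨el (gens g) * k, mul_mem (hS g hg) hk, ?_⟩
    rw [map_mul, Equiv.Perm.mul_apply, ← hu]
    exact (rep_el (hgens g hg) _).symm) l _ h (fun u hu => by
    rw [Nat.testBit_two_pow, decide_eq_true_eq] at hu
    exact ⟨1, one_mem S, by rw [map_one]; exact hu⟩) p hp
  obtain ⟨k, hk, e⟩ := this
  exact ⟨k, hk, Fin.ext e⟩

end CfsgLib.Sporadic.SuzRank
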